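import Mathlib.CategoryTheory.Abelian.Ext
import Mathlib.CategoryTheory.Abelian.Projective.Ext
import Mathlib.Algebra.Category.ModuleCat.Ext.DimensionShifting
import Mathlib.Algebra.Category.ModuleCat.Projective
import Mathlib.Algebra.Homology.DerivedCategory.Ext.Linear
import Mathlib.Algebra.Homology.ShortComplex.ModuleCat

/-!
# Bridge between the derived-functor `Ext R C n` and `CategoryTheory.Abelian.Ext` in `ModuleCat R`

`extBridge X Y n : ((Ext R (ModuleCat R) n).obj (op X)).obj Y ≃ₗ[R] Abelian.Ext X Y n`,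
natural in `Y` (`extBridge_map`) and in `X` (`extBridge_premap`).
-/

set_option autoImplicit false

universe u

open CategoryTheory CategoryTheory.Limits Opposite

noncomputable section

namespace Groth.Agent.LocCoh.ExtBridge

variable {R : Type u} [CommRing R]

/-- `Hom(-, Y)` as a functor into the opposite category -/
abbrev FY (Y : ModuleCat.{u} R) : ModuleCat.{u} R ⥤ (ModuleCat.{u} R)ᵒᵖ :=
  ((linearYoneda R (ModuleCat.{u} R)).obj Y).rightOp

abbrev natY {Y Y' : ModuleCat.{u} R} (g : Y ⟶ Y') : FY Y' ⟶ FY Y :=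
  NatTrans.rightOp ((linearYoneda R (ModuleCat.{u} R)).map g)

/-- the old `Ext` -/
abbrev E₀ (X Y : ModuleCat.{u} R) (n : ℕ) : ModuleCat.{u} R :=
  ((Ext R (ModuleCat.{u} R) n).obj (op X)).obj Y

variable {X : ModuleCat.{u} R} (P : ProjectiveResolution X) (Y : ModuleCat.{u} R) (n : ℕ)

abbrev L : ChainComplex (ModuleCat.{u} R)ᵒᵖ ℕ :=
  ((FY Y).mapHomologicalComplex _).obj P.complex

/-- cocycles -/
abbrev Z : ModuleCat.{u} R := ((L P Y).opcycles n).unop

def incl : Z P Y n ⟶ ModuleCat.of R (P.complex.X n ⟶ Y) := ((L P Y).pOpcycles n).unop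

def q : Z P Y n ⟶ E₀ X Y n :=
  ((P.isoLeftDerivedObj (FY Y) n).hom ≫ (L P Y).homologyι n).unop

lemma q_surjective : Function.Surjective (q P Y n).hom := by
  rw [← ModuleCat.epi_iff_surjective, q]
  haveI : Mono ((P.isoLeftDerivedObj (FY Y) n).hom ≫ (L P Y).homologyι n) := ⟨fun a b h => by
    simp only [← Category.assoc] at h
    exact (cancel_mono _).1 (Fork.IsLimit.hom_ext ((L P Y).homologyIsKernel n _ rfl) h)⟩
  exact unop_epi_of_mono _

lemma incl_injective : Function.Injective (incl P Y n).hom := by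
  rw [← ModuleCat.mono_iff_injective, incl]
  haveI : Epi ((L P Y).pOpcycles n) := inferInstance
  exact unop_mono_of_epi _

lemma d_incl (z : Z P Y n) (m : ℕ) : P.complex.d m n ≫ (incl P Y n).hom z = 0 := by
  have h := congrArg Quiver.Hom.unop ((L P Y).d_pOpcycles m n)
  exact LinearMap.congr_fun (congrArg ModuleCat.Hom.hom h) z

lemma exists_incl_eq (f : P.complex.X n ⟶ Y) (hf : P.complex.d (n + 1) n ≫ f = 0) :
    ∃ z, (incl P Y n).hom z = f := by
  let c : ModuleCat.of R R ⟶ ModuleCat.of R (P.complex.X n ⟶ Y) :=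
    ModuleCat.ofHom (LinearMap.toSpanSingleton R _ f)
  have hc : (L P Y).d (n + 1) n ≫ c.op = 0 := by
    refine Quiver.Hom.unop_inj (ModuleCat.hom_ext (LinearMap.ext fun r => ?_))
    change P.complex.d (n + 1) n ≫ (r • f) = 0
    rw [Linear.comp_smul, hf, smul_zero]
  let d := (L P Y).descOpcycles c.op (n + 1) (by simp) hc
  refine ⟨d.unop.hom (1 : R), ?_⟩
  have h := congrArg Quiver.Hom.unop ((L P Y).p_descOpcycles c.op (n + 1) (by simp) hc)
  refine (LinearMap.congr_fun (congrArg ModuleCat.Hom.hom h) (1 : R)).trans ?_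
  exact one_smul R f

lemma q_eq_zero_iff (z : Z P Y n) (p : ℕ) (hp : (ComplexShape.down ℕ).next n = p) :
    (q P Y n).hom z = 0 ↔ ∃ g : P.complex.X p ⟶ Y, (incl P Y n).hom z = P.complex.d n p ≫ g := by
  let S : ShortComplex (ModuleCat.{u} R)ᵒᵖ :=
    ShortComplex.mk ((L P Y).homologyι n) ((L P Y).fromOpcycles n p) ((L P Y).homologyι_comp_fromOpcycles n p)
  have hS : S.Exact := S.exact_of_f_is_kernel ((L P Y).homologyIsKernel n p hp)
  have hex := (ShortComplex.ShortExact.moduleCat_exact_iff_function_exact S.unop).1 hS.unop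
  have hiso : Function.Injective (P.isoLeftDerivedObj (FY Y) n).hom.unop.hom := by
    rw [← ModuleCat.mono_iff_injective]
    infer_instance
  change (P.isoLeftDerivedObj (FY Y) n).hom.unop.hom (((L P Y).homologyι n).unop.hom z) = 0 ↔ _
  rw [map_eq_zero_iff _ hiso]
  refine (hex z).trans ?_
  have hp' := congrArg Quiver.Hom.unop ((L P Y).p_fromOpcycles n p)
  constructor
  · rintro ⟨g, rfl⟩
    exact ⟨g, LinearMap.congr_fun (congrArg ModuleCat.Hom.hom hp') g⟩
  · rintro ⟨g, hg⟩
    exact ⟨g, incl_injective P Y n ((LinearMap.congr_fun (congrArg ModuleCat.Hom.hom hp') g).trans hg.symm)⟩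

/-- cocycles to `Abelian.Ext` -/
def phi : Z P Y n →ₗ[R] Abelian.Ext X Y n where
  toFun z := P.extMk ((incl P Y n).hom z) (n + 1) rfl (d_incl P Y n z (n + 1))
  map_add' z z' := by
    simp only [map_add]
    rw [← P.add_extMk _ _ (n + 1) rfl (d_incl P Y n z (n + 1)) (d_incl P Y n z' (n + 1))]
  map_smul' r z := by
    simp only [map_smul, RingHom.id_apply]
    rw [Abelian.Ext.smul_eq_comp_mk₀, P.extMk_comp_mk₀ _ (n + 1) rfl (d_incl P Y n z (n + 1))]
    simp only [Linear.comp_smul, Category.comp_id]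

lemma extMk_eq_zero_iff_zero (f : P.complex.X 0 ⟶ Y) (hf : P.complex.d 1 0 ≫ f = 0) :
    P.extMk f 1 rfl hf = 0 ↔ f = 0 := by
  constructor
  · intro h
    rw [← P.extEquivCohomologyClass.apply_eq_iff_eq, P.extEquivCohomologyClass_extMk,
      P.extEquivCohomologyClass_zero, CochainComplex.HomComplex.CohomologyClass.mk_eq_zero_iff,
      CochainComplex.HomComplex.Cocycle.toSingleMk_mem_coboundaries_iff _ _ _ _ _ 1 (by simp)] at h
    obtain ⟨g, hg⟩ := h
    have hz : IsZero (P.cochainComplex.X 1) := P.cochainComplex.isZero_of_isStrictlyLE 0 1 (by simp)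
    rw [hz.eq_of_src g 0, comp_zero] at hg
    exact (cancel_epi (P.cochainComplexXIso (-0) 0 rfl).hom).1 (hg.symm.trans comp_zero.symm)
  · rintro rfl
    exact P.extMk_zero 1 rfl

lemma phi_eq_zero_iff (z : Z P Y n) : phi P Y n z = 0 ↔ (q P Y n).hom z = 0 := by
  rw [q_eq_zero_iff P Y n z _ rfl]
  cases n with
  | zero =>
    refine (extMk_eq_zero_iff_zero P Y _ (d_incl P Y 0 z 1)).trans ⟨fun h => ⟨0, by rw [h, comp_zero]⟩, fun ⟨g, hg⟩ => ?_⟩
    rw [hg, P.complex.shape _ _ (by simp), zero_comp]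
  | succ k =>
    refine (P.extMk_eq_zero_iff _ _ rfl (d_incl P Y (k + 1) z (k + 2)) k rfl).trans ?_
    rw [ChainComplex.next_nat_succ]
    exact exists_congr fun g => eq_comm

lemma phi_surjective : Function.Surjective (phi P Y n) := by
  intro a
  obtain ⟨f, hf, rfl⟩ := P.extMk_surjective a (n + 1) rfl
  obtain ⟨z, rfl⟩ := exists_incl_eq P Y n f hf
  exact ⟨z, rfl⟩

lemma ker_q_eq : LinearMap.ker (q P Y n).hom = LinearMap.ker (phi P Y n) := by
  ext z
  exact (phi_eq_zero_iff P Y n z).symm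

def equivOfResolution : E₀ X Y n ≃ₗ[R] Abelian.Ext X Y n :=
  ((LinearMap.quotKerEquivOfSurjective _ (q_surjective P Y n)).symm.trans
    (Submodule.quotEquivOfEq _ _ (ker_q_eq P Y n))).trans
      (LinearMap.quotKerEquivOfSurjective _ (phi_surjective P Y n))

lemma equivOfResolution_q (z : Z P Y n) : equivOfResolution P Y n ((q P Y n).hom z) = phi P Y n z := by
  simp only [equivOfResolution, LinearEquiv.trans_apply]
  rw [show (LinearMap.quotKerEquivOfSurjective _ (q_surjective P Y n)).symm ((q P Y n).hom z) =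
    Submodule.Quotient.mk z from (LinearEquiv.symm_apply_eq _).2 rfl]
  rfl

variable {Y}

lemma equivOfResolution_map {Y' : ModuleCat.{u} R} (g : Y ⟶ Y') (ξ : E₀ X Y n) :
    equivOfResolution P Y' n (((Ext R (ModuleCat.{u} R) n).obj (op X)).map g ξ) =
      (equivOfResolution P Y n ξ).comp (Abelian.Ext.mk₀ g) (add_zero n) := by
  obtain ⟨z, rfl⟩ := q_surjective P Y n ξ
  let ψ : L P Y' ⟶ L P Y := (NatTrans.mapHomologicalComplex (natY g) _).app P.complex
  let z' : Z P Y' n := (HomologicalComplex.opcyclesMap ψ n).unop.hom z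
  have hincl : (incl P Y' n).hom z' = (incl P Y n).hom z ≫ g :=
    LinearMap.congr_fun (congrArg ModuleCat.Hom.hom
      (congrArg Quiver.Hom.unop (HomologicalComplex.p_opcyclesMap ψ n))) z
  have hq : ((Ext R (ModuleCat.{u} R) n).obj (op X)).map g ((q P Y n).hom z) = (q P Y' n).hom z' := by
    have h : (NatTrans.leftDerived (natY g) n).app X ≫ (P.isoLeftDerivedObj (FY Y) n).hom ≫ (L P Y).homologyι n =
        ((P.isoLeftDerivedObj (FY Y') n).hom ≫ (L P Y').homologyι n) ≫ HomologicalComplex.opcyclesMap ψ n := by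
      rw [P.leftDerived_app_eq (natY g) n]
      simp only [Category.assoc, Iso.inv_hom_id_assoc]
      erw [HomologicalComplex.homologyι_naturality]
      rfl
    exact LinearMap.congr_fun (congrArg ModuleCat.Hom.hom (congrArg Quiver.Hom.unop h)) z
  rw [hq, equivOfResolution_q, equivOfResolution_q]
  simp only [phi, LinearMap.coe_mk, AddHom.coe_mk, hincl]
  rw [P.extMk_comp_mk₀]

variable (Y)

lemma equivOfResolution_premap {X' : ModuleCat.{u} R} (P' : ProjectiveResolution X') (f : X' ⟶ X) (ξ : E₀ X Y n) :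
    equivOfResolution P' Y n (((Ext R (ModuleCat.{u} R) n).map f.op).app Y ξ) =
      (Abelian.Ext.mk₀ f).comp (equivOfResolution P Y n ξ) (zero_add n) := by
  obtain ⟨z, rfl⟩ := q_surjective P Y n ξ
  let χ : P'.complex ⟶ P.complex := ProjectiveResolution.lift f P' P
  let φ : ProjectiveResolution.Hom P' P f :=
    { hom := χ
      hom_f_zero_comp_π_f_zero := by
        rw [ProjectiveResolution.lift_commutes_zero f P' P, ChainComplex.single₀_map_f_zero]
        rfl }
  let ψ : L P' Y ⟶ L P Y := ((FY Y).mapHomologicalComplex _).map χ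
  let z' : Z P' Y n := (HomologicalComplex.opcyclesMap ψ n).unop.hom z
  have hincl : (incl P' Y n).hom z' = χ.f n ≫ (incl P Y n).hom z :=
    LinearMap.congr_fun (congrArg ModuleCat.Hom.hom
      (congrArg Quiver.Hom.unop (HomologicalComplex.p_opcyclesMap ψ n))) z
  have hq : ((Ext R (ModuleCat.{u} R) n).map f.op).app Y ((q P Y n).hom z) = (q P' Y n).hom z' := by
    have h : ((FY Y).leftDerived n).map f ≫ (P.isoLeftDerivedObj (FY Y) n).hom ≫ (L P Y).homologyι n =
        ((P'.isoLeftDerivedObj (FY Y) n).hom ≫ (L P' Y).homologyι n) ≫ HomologicalComplex.opcyclesMap ψ n := by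
      rw [ProjectiveResolution.isoLeftDerivedObj_hom_naturality_assoc f P' P χ
        (ProjectiveResolution.lift_commutes_zero f P' P)]
      simp only [Category.assoc]
      erw [HomologicalComplex.homologyι_naturality]
      rfl
    exact LinearMap.congr_fun (congrArg ModuleCat.Hom.hom (congrArg Quiver.Hom.unop h)) z
  rw [hq, equivOfResolution_q, equivOfResolution_q]
  simp only [phi, LinearMap.coe_mk, AddHom.coe_mk, hincl]
  rw [ProjectiveResolution.mk₀_comp_extMk _ _ _ _ φ]

end Groth.Agent.LocCoh.ExtBridge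

namespace Groth.Agent.LocCoh

open ExtBridge

variable {R : Type u} [CommRing R]

/-- the two `Ext`'s agree -/
def extBridge (X Y : ModuleCat.{u} R) (n : ℕ) : E₀ X Y n ≃ₗ[R] Abelian.Ext X Y n :=
  equivOfResolution (projectiveResolution X) Y n

lemma extBridge_map (X : ModuleCat.{u} R) {Y Y' : ModuleCat.{u} R} (g : Y ⟶ Y') (n : ℕ) (ξ : E₀ X Y n) :
    extBridge X Y' n (((Ext R (ModuleCat.{u} R) n).obj (op X)).map g ξ) =
      (extBridge X Y n ξ).comp (Abelian.Ext.mk₀ g) (add_zero n) :=
  equivOfResolution_map _ n g ξ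

lemma extBridge_premap {X X' : ModuleCat.{u} R} (f : X' ⟶ X) (Y : ModuleCat.{u} R) (n : ℕ) (ξ : E₀ X Y n) :
    extBridge X' Y n (((Ext R (ModuleCat.{u} R) n).map f.op).app Y ξ) =
      (Abelian.Ext.mk₀ f).comp (extBridge X Y n ξ) (zero_add n) :=
  equivOfResolution_premap _ Y n _ f ξ

end Groth.Agent.LocCoh
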