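import Groth.Prelude.Def_Wider
import Groth.Agent.LocCoh.ExtBridge
import Mathlib.Algebra.Homology.LocalCohomology
import Mathlib.CategoryTheory.Limits.FunctorCategory.Basic
import Mathlib.CategoryTheory.Limits.ConcreteCategory.Basic
import Mathlib.Algebra.Category.ModuleCat.EnoughInjectives
import Mathlib.Algebra.Category.ModuleCat.FilteredColimits
import Mathlib.Algebra.Homology.DerivedCategory.Ext.ExactSequences
import Mathlib.Algebra.Homology.DerivedCategory.Ext.EnoughInjectives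

/-!
# Elements of local cohomology: `H I i M = colim_n Ext^i(R/I^n, M)` with `Abelian.Ext`

`toH`, `exists_toH`, `toH_eq_zero_iff`, `map_toH`, `desc`, the long exact sequence
(`delta`, `exact₁`, `exact₂`, `exact₃`), vanishing on injectives.
-/

set_option autoImplicit false

universe u

open CategoryTheory CategoryTheory.Limits Opposite CategoryTheory.Abelian

noncomputable section

namespace Groth.Agent.LocCoh

variable {R : Type u} [CommRing R]

/-- `R/I^n` -/
abbrev Q (I : Ideal R) (n : ℕ) : ModuleCat.{u} R := ModuleCat.of R (R ⧸ I ^ n)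

/-- `R/I^m → R/I^n` -/
def proj (I : Ideal R) {n m : ℕ} (h : n ≤ m) : Q I m ⟶ Q I n :=
  ModuleCat.ofHom (Submodule.factor (Ideal.pow_le_pow_right h))

lemma proj_comp (I : Ideal R) {n m k : ℕ} (h : n ≤ m) (h' : m ≤ k) :
    proj I h' ≫ proj I h = proj I (h.trans h') := by
  refine ModuleCat.hom_ext (LinearMap.ext fun x => ?_)
  obtain ⟨x, rfl⟩ := Submodule.Quotient.mk_surjective _ x
  rfl

variable (I : Ideal R) (i : ℕ)

abbrev diag : ℕᵒᵖᵒᵖ ⥤ ModuleCat.{u} R ⥤ ModuleCat.{u} R :=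
  localCohomology.diagram (localCohomology.idealPowersDiagram I) i

/-- `H^i_I` as a functor -/
abbrev HF : ModuleCat.{u} R ⥤ ModuleCat.{u} R := localCohomology I i

/-- the cocone of `Ext^i(R/I^n, M)` -/
def cocone (M : ModuleCat.{u} R) : Cocone (diag I i ⋙ (evaluation _ _).obj M) :=
  ((evaluation _ _).obj M).mapCocone (colimit.cocone (diag I i))

def isColimit (M : ModuleCat.{u} R) : IsColimit (cocone I i M) :=
  isColimitOfPreserves ((evaluation _ _).obj M) (colimit.isColimit (diag I i))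

variable (M : ModuleCat.{u} R)

/-- the colimit leg -/
def toH₀ (n : ℕ) : ExtBridge.E₀ (Q I n) M i →ₗ[R] (HF I i).obj M :=
  ((cocone I i M).ι.app (op (op n))).hom

/-- `Ext^i(R/I^n, M) → H^i_I(M)` -/
def toH (n : ℕ) : Ext (Q I n) M i →ₗ[R] (HF I i).obj M :=
  toH₀ I i M n ∘ₗ (extBridge (Q I n) M i).symm.toLinearMap

lemma toH_extBridge (n : ℕ) (η : ExtBridge.E₀ (Q I n) M i) :
    toH I i M n (extBridge (Q I n) M i η) = toH₀ I i M n η :=
  congrArg (toH₀ I i M n) ((extBridge (Q I n) M i).symm_apply_apply η)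

instance : PreservesFilteredColimitsOfSize.{0, 0} (forget (ModuleCat.{u} R)) :=
  preservesSmallestFilteredColimits_of_preservesFilteredColimits _

/-- a transition map of the diagram -/
lemma diag_map {n m : ℕ} (h : n ≤ m) (w : (op (op n) : ℕᵒᵖᵒᵖ) ⟶ op (op m)) :
    ((diag I i).map w).app M = ((_root_.Ext R (ModuleCat.{u} R) i).map (proj I h).op).app M := by
  have e : (localCohomology.ringModIdeals (localCohomology.idealPowersDiagram I)).map w.unop = proj I h := by
    refine ModuleCat.hom_ext (LinearMap.ext fun x => ?_)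
    obtain ⟨x, rfl⟩ := Submodule.Quotient.mk_surjective _ x
    rfl
  change ((_root_.Ext R (ModuleCat.{u} R) i).map
    ((localCohomology.ringModIdeals (localCohomology.idealPowersDiagram I)).map w.unop).op).app M = _
  rw [e]
  rfl

def transition {n m : ℕ} (h : n ≤ m) : (op (op n) : ℕᵒᵖᵒᵖ) ⟶ op (op m) := (homOfLE h).op.op

lemma toH_proj {n m : ℕ} (h : n ≤ m) (ξ : Ext (Q I n) M i) :
    toH I i M m ((Ext.mk₀ (proj I h)).comp ξ (zero_add i)) = toH I i M n ξ := by
  obtain ⟨η, rfl⟩ := (extBridge (Q I n) M i).surjective ξ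
  rw [← extBridge_premap, toH_extBridge, toH_extBridge, ← diag_map I i M h (transition h)]
  exact LinearMap.congr_fun (congrArg ModuleCat.Hom.hom ((cocone I i M).ι.naturality (transition h))) η

lemma exists_toH (x : (HF I i).obj M) : ∃ (n : ℕ) (ξ : Ext (Q I n) M i), toH I i M n ξ = x := by
  obtain ⟨⟨⟨n⟩⟩, η, hη⟩ := Concrete.isColimit_exists_rep _ (isColimit I i M) x
  refine ⟨n, extBridge (Q I n) M i η, ?_⟩
  rw [toH_extBridge]
  exact hη

lemma toH_eq_zero_iff {n : ℕ} (ξ : Ext (Q I n) M i) :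
    toH I i M n ξ = 0 ↔ ∃ (m : ℕ) (h : n ≤ m), (Ext.mk₀ (proj I h)).comp ξ (zero_add i) = 0 := by
  constructor
  · intro h
    obtain ⟨η, rfl⟩ := (extBridge (Q I n) M i).surjective ξ
    rw [toH_extBridge] at h
    obtain ⟨⟨⟨k⟩⟩, f, g, hfg⟩ := (Concrete.isColimit_rep_eq_iff_exists _ (isColimit I i M) (i := op (op n))
      (j := op (op n)) η 0).1 (h.trans (map_zero _).symm)
    have hnk : n ≤ k := leOfHom f.unop.unop
    refine ⟨k, hnk, ?_⟩
    rw [← extBridge_premap, ← diag_map I i M hnk f]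
    exact (congrArg (extBridge (Q I k) M i) (hfg.trans (map_zero _))).trans (map_zero _)
  · rintro ⟨m, h, hm⟩
    rw [← toH_proj I i M h, hm, map_zero]

lemma toH_eq_iff {n n' : ℕ} (ξ : Ext (Q I n) M i) (ξ' : Ext (Q I n') M i) :
    toH I i M n ξ = toH I i M n' ξ' ↔ ∃ (m : ℕ) (h : n ≤ m) (h' : n' ≤ m),
      (Ext.mk₀ (proj I h)).comp ξ (zero_add i) = (Ext.mk₀ (proj I h')).comp ξ' (zero_add i) := by
  constructor
  · intro heq
    have h0 : toH I i M (max n n') ((Ext.mk₀ (proj I (le_max_left n n'))).comp ξ (zero_add i) -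
        (Ext.mk₀ (proj I (le_max_right n n'))).comp ξ' (zero_add i)) = 0 := by
      rw [map_sub, toH_proj, toH_proj, heq, sub_self]
    obtain ⟨m, hm, h⟩ := (toH_eq_zero_iff I i M _).1 h0
    refine ⟨m, (le_max_left n n').trans hm, (le_max_right n n').trans hm, ?_⟩
    rw [← sub_eq_zero, ← proj_comp I (le_max_left n n') hm, ← proj_comp I (le_max_right n n') hm,
      ← Ext.mk₀_comp_mk₀, ← Ext.mk₀_comp_mk₀,
      Ext.comp_assoc (Ext.mk₀ _) (Ext.mk₀ _) ξ (zero_add 0) (zero_add i) (by omega),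
      Ext.comp_assoc (Ext.mk₀ _) (Ext.mk₀ _) ξ' (zero_add 0) (zero_add i) (by omega), ← h]
    rw [sub_eq_add_neg, sub_eq_add_neg, Ext.comp_add, Ext.comp_neg]
  · rintro ⟨m, h, h', e⟩
    rw [← toH_proj I i M h, e, toH_proj]

lemma map_toH {N : ModuleCat.{u} R} (g : M ⟶ N) {n : ℕ} (ξ : Ext (Q I n) M i) :
    (HF I i).map g (toH I i M n ξ) = toH I i N n (ξ.comp (Ext.mk₀ g) (add_zero i)) := by
  obtain ⟨η, rfl⟩ := (extBridge (Q I n) M i).surjective ξ
  rw [← extBridge_map, toH_extBridge, toH_extBridge]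
  exact (LinearMap.congr_fun (congrArg ModuleCat.Hom.hom ((colimit.ι (diag I i) (op (op n))).naturality g)) η).symm

/-- a linear map out of `H^i_I(M)` -/
def desc {N : Type u} [AddCommGroup N] [Module R N] (f : ∀ n, Ext (Q I n) M i →ₗ[R] N)
    (hf : ∀ (n m : ℕ) (h : n ≤ m) (ξ : Ext (Q I n) M i), f m ((Ext.mk₀ (proj I h)).comp ξ (zero_add i)) = f n ξ) :
    (HF I i).obj M →ₗ[R] N :=
  ((isColimit I i M).desc
    { pt := ModuleCat.of R N
      ι := { app := fun j => ModuleCat.ofHom (f j.unop.unop ∘ₗ (extBridge (Q I j.unop.unop) M i).toLinearMap)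
             naturality := by
              rintro ⟨⟨n⟩⟩ ⟨⟨m⟩⟩ w
              have h : n ≤ m := leOfHom w.unop.unop
              refine ModuleCat.hom_ext (LinearMap.ext fun η => ?_)
              change f m (extBridge (Q I m) M i (((diag I i).map w).app M η)) = f n (extBridge (Q I n) M i η)
              rw [diag_map I i M h w]
              exact (congrArg (f m) (extBridge_premap (proj I h) M i η)).trans (hf n m h _) } }).hom

lemma desc_toH {N : Type u} [AddCommGroup N] [Module R N] (f : ∀ n, Ext (Q I n) M i →ₗ[R] N)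
    (hf : ∀ (n m : ℕ) (h : n ≤ m) (ξ : Ext (Q I n) M i), f m ((Ext.mk₀ (proj I h)).comp ξ (zero_add i)) = f n ξ)
    (n : ℕ) (ξ : Ext (Q I n) M i) : desc I i M f hf (toH I i M n ξ) = f n ξ := by
  obtain ⟨η, rfl⟩ := (extBridge (Q I n) M i).surjective ξ
  rw [toH_extBridge]
  exact LinearMap.congr_fun (congrArg ModuleCat.Hom.hom ((isColimit I i M).fac _ (op (op n)))) η

lemma hom_ext {N : Type u} [AddCommGroup N] [Module R N] {F G : (HF I i).obj M →ₗ[R] N}
    (h : ∀ n ξ, F (toH I i M n ξ) = G (toH I i M n ξ)) : F = G := by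
  refine LinearMap.ext fun x => ?_
  obtain ⟨n, ξ, rfl⟩ := exists_toH I i M x
  exact h n ξ

theorem subsingleton_of_forall (h : ∀ n (ξ : Ext (Q I n) M i), ∃ (m : ℕ) (hm : n ≤ m),
    (Ext.mk₀ (proj I hm)).comp ξ (zero_add i) = 0) : Subsingleton ((HF I i).obj M) := by
  refine subsingleton_of_forall_eq 0 fun x => ?_
  obtain ⟨n, ξ, rfl⟩ := exists_toH I i M x
  exact (toH_eq_zero_iff I i M ξ).2 (h n ξ)

theorem subsingleton_of_injective [Injective M] (hi : 0 < i) : Subsingleton ((HF I i).obj M) := by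
  refine subsingleton_of_forall I i M fun n ξ => ⟨n, le_rfl, ?_⟩
  obtain ⟨j, rfl⟩ := Nat.exists_eq_succ_of_ne_zero hi.ne'
  rw [Ext.eq_zero_of_injective ξ, Ext.comp_zero]

section LES

variable {S : ShortComplex (ModuleCat.{u} R)} (hS : S.ShortExact) (j : ℕ)

/-- the connecting map -/
def delta : (HF I i).obj S.X₃ →ₗ[R] (HF I (i + 1)).obj S.X₁ :=
  desc I i S.X₃ (fun n => toH I (i + 1) S.X₁ n ∘ₗ
    { toFun := fun ξ => ξ.comp hS.extClass rfl
      map_add' := fun a b => by simp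
      map_smul' := fun r a => by simp [Ext.smul_comp] })
    fun n m h ξ => by
      simp only [LinearMap.comp_apply, LinearMap.coe_mk, AddHom.coe_mk]
      rw [Ext.comp_assoc (Ext.mk₀ _) ξ hS.extClass (zero_add i) rfl (by omega), toH_proj]

lemma delta_toH {n : ℕ} (ξ : Ext (Q I n) S.X₃ i) :
    delta I i hS (toH I i S.X₃ n ξ) = toH I (i + 1) S.X₁ n (ξ.comp hS.extClass rfl) :=
  desc_toH I i S.X₃ _ _ n ξ

theorem exact₂ (hS : S.ShortExact) : Function.Exact ((HF I i).map S.f).hom ((HF I i).map S.g).hom := by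
  intro x
  constructor
  · intro hx
    obtain ⟨n, ξ, rfl⟩ := exists_toH I i S.X₂ x
    rw [map_toH, toH_eq_zero_iff] at hx
    obtain ⟨m, h, hm⟩ := hx
    rw [← Ext.comp_assoc (Ext.mk₀ _) ξ (Ext.mk₀ _) (zero_add i) (add_zero i) (by omega)] at hm
    obtain ⟨η, hη⟩ := Ext.covariant_sequence_exact₂ _ hS _ hm
    exact ⟨toH I i S.X₁ m η, by rw [map_toH, hη, toH_proj]⟩
  · rintro ⟨y, rfl⟩
    obtain ⟨n, η, rfl⟩ := exists_toH I i S.X₁ y
    rw [map_toH, map_toH, Ext.comp_assoc η (Ext.mk₀ _) (Ext.mk₀ _) (add_zero i) (zero_add 0) (by omega),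
      Ext.mk₀_comp_mk₀, S.zero, Ext.mk₀_zero, Ext.comp_zero, map_zero]

theorem exact₃ : Function.Exact ((HF I i).map S.g).hom (delta I i hS) := by
  intro x
  constructor
  · intro hx
    obtain ⟨n, ξ, rfl⟩ := exists_toH I i S.X₃ x
    rw [delta_toH, toH_eq_zero_iff] at hx
    obtain ⟨m, h, hm⟩ := hx
    rw [← Ext.comp_assoc (Ext.mk₀ _) ξ hS.extClass (zero_add i) rfl (by omega)] at hm
    obtain ⟨η, hη⟩ := Ext.covariant_sequence_exact₃ _ hS _ rfl hm
    exact ⟨toH I i S.X₂ m η, by rw [map_toH, hη, toH_proj]⟩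
  · rintro ⟨y, rfl⟩
    obtain ⟨n, η, rfl⟩ := exists_toH I i S.X₂ y
    rw [map_toH, delta_toH, Ext.comp_assoc η (Ext.mk₀ _) hS.extClass (add_zero i) (zero_add 1) (by omega),
      hS.comp_extClass, Ext.comp_zero, map_zero]

theorem exact₁ : Function.Exact (delta I i hS) ((HF I (i + 1)).map S.f).hom := by
  intro x
  constructor
  · intro hx
    obtain ⟨n, ξ, rfl⟩ := exists_toH I (i + 1) S.X₁ x
    rw [map_toH, toH_eq_zero_iff] at hx
    obtain ⟨m, h, hm⟩ := hx
    rw [← Ext.comp_assoc (Ext.mk₀ _) ξ (Ext.mk₀ _) (zero_add _) (add_zero _) (by omega)] at hm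
    obtain ⟨η, hη⟩ := Ext.covariant_sequence_exact₁ _ hS _ hm rfl
    exact ⟨toH I i S.X₃ m η, by rw [delta_toH, hη, toH_proj]⟩
  · rintro ⟨y, rfl⟩
    obtain ⟨n, η, rfl⟩ := exists_toH I i S.X₃ y
    rw [delta_toH, map_toH, Ext.comp_assoc η hS.extClass (Ext.mk₀ _) rfl (add_zero 1) (by omega),
      hS.extClass_comp, Ext.comp_zero, map_zero]

theorem injective_map_zero (hS : S.ShortExact) : Function.Injective ((HF I 0).map S.f).hom := by
  refine (injective_iff_map_eq_zero _).2 fun x hx => ?_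
  obtain ⟨n, ξ, rfl⟩ := exists_toH I 0 S.X₁ x
  rw [map_toH, toH_eq_zero_iff] at hx
  obtain ⟨m, h, hm⟩ := hx
  refine (toH_eq_zero_iff I 0 S.X₁ ξ).2 ⟨m, h, ?_⟩
  rw [← Ext.comp_assoc (Ext.mk₀ _) ξ (Ext.mk₀ _) (zero_add 0) (add_zero 0) (by omega)] at hm
  haveI := hS.mono_f
  exact Ext.postcomp_mk₀_injective_of_mono (Q I m) S.f (hm.trans (map_zero _).symm)

end LES

end Groth.Agent.LocCoh
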