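import Groth.Agent.LocCoh.Vanishing
import Mathlib.RingTheory.Localization.Away.Basic
import Mathlib.Algebra.Module.LocalizedModule.Basic

/-!
# Cohomological dimension: adding one generator; reduction to the ring
-/

set_option autoImplicit false

universe u

open CategoryTheory CategoryTheory.Abelian
open scoped Pointwise

noncomputable section

namespace Groth.Agent.LocCoh

variable {R : Type u} [CommRing R] (J : Ideal R) (x : R)

/-- an `x`-power torsion module -/
def XTor (T : Type u) [AddCommGroup T] [Module R T] : Prop := ∀ t : T, ∃ k : ℕ, x ^ k • t = 0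

variable {J x}

lemma gamma_sup_span {T : Type u} [AddCommGroup T] [Module R T] (hT : XTor x T) (t : T) :
    t ∈ gamma J T ↔ t ∈ gamma (J ⊔ Ideal.span {x}) T := by
  constructor
  · rintro ⟨n, hn⟩
    obtain ⟨k, hk⟩ := hT t
    refine ⟨n + k, fun a ha => ?_⟩
    have ha' : a ∈ J ^ n ⊔ Ideal.span {x} ^ k := Ideal.sup_pow_add_le_pow_sup_pow ha
    obtain ⟨u, hu, v, hv, rfl⟩ := Submodule.mem_sup.1 ha'
    rw [Ideal.span_singleton_pow] at hv
    obtain ⟨c, rfl⟩ := Ideal.mem_span_singleton'.1 hv
    rw [add_smul, hn u hu, mul_smul, hk, smul_zero, add_zero]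
  · rintro ⟨n, hn⟩
    exact ⟨n, fun a ha => hn a (Ideal.pow_right_mono le_sup_left n ha)⟩

lemma isPowerTorsion_of_xTor_gamma {E : Type u} [AddCommGroup E] [Module R E] :
    XTor x (gamma (Ideal.span {x}) E) := fun t => by
  obtain ⟨k, hk⟩ := t.2
  exact ⟨k, Subtype.ext (hk _ (by rw [Ideal.span_singleton_pow]; exact Ideal.mem_span_singleton_self _))⟩

variable [IsNoetherianRing R]

/-- `H_J` and `H_{J + (x)}` vanish together on `x`-torsion modules -/
theorem subsingleton_sup_span_iff : ∀ (i : ℕ) (T : Type u) [AddCommGroup T] [Module R T], XTor x T →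
    (Subsingleton (LocCoh.H (J ⊔ Ideal.span {x}) (i + 1) T) ↔ Subsingleton (LocCoh.H J (i + 1) T)) := by
  intro i T _ _ hT
  let ⟨pres⟩ := EnoughInjectives.presentation (ModuleCat.of R T)
  haveI : Module.Injective R pres.J := by
    haveI := pres.injective
    exact (Module.injective_iff_injective_object R pres.J).2 (inferInstance : Injective (ModuleCat.of R pres.J))
  haveI := injective_gamma (Ideal.span {x}) pres.J
  haveI : Injective (ModuleCat.of R (gamma (Ideal.span {x}) pres.J)) :=
    (Module.injective_iff_injective_object R _).1 inferInstance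
  let f : T →ₗ[R] gamma (Ideal.span {x}) pres.J := pres.f.hom.codRestrict _ fun t => by
    obtain ⟨k, hk⟩ := hT t
    refine ⟨k, fun a ha => ?_⟩
    rw [Ideal.span_singleton_pow] at ha
    obtain ⟨c, rfl⟩ := Ideal.mem_span_singleton'.1 ha
    rw [mul_smul]
    refine (congrArg (c • ·) ?_).trans (smul_zero c)
    exact (map_smul pres.f.hom _ _).symm.trans ((congrArg pres.f.hom hk).trans (map_zero _))
  have hf : Function.Injective f := fun a b hab =>
    (ModuleCat.mono_iff_injective pres.f).1 pres.mono (congrArg Subtype.val hab)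
  let E := gamma (Ideal.span {x}) pres.J
  have hE : XTor x E := isPowerTorsion_of_xTor_gamma
  have hC : XTor x (E ⧸ LinearMap.range f) := fun c => by
    obtain ⟨e, rfl⟩ := Submodule.Quotient.mk_surjective _ c
    exact (hE e).imp fun k hk => by rw [← Submodule.Quotient.mk_smul, hk, Submodule.Quotient.mk_zero]
  let S : ShortComplex (ModuleCat.{u} R) := ShortComplex.mk (ModuleCat.ofHom f)
    (ModuleCat.ofHom (LinearMap.range f).mkQ)
    (ModuleCat.hom_ext (LinearMap.ext fun z => (Submodule.Quotient.mk_eq_zero _).2 (LinearMap.mem_range_self f z)))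
  have hS : S.ShortExact :=
    { exact := (ShortComplex.ShortExact.moduleCat_exact_iff_function_exact S).2
        (LinearMap.exact_iff.2 (Submodule.ker_mkQ _))
      mono_f := (ModuleCat.mono_iff_injective _).2 hf
      epi_g := (ModuleCat.epi_iff_surjective _).2 (Submodule.mkQ_surjective _) }
  cases i with
  | zero =>
    have key : ∀ K : Ideal R, Subsingleton (LocCoh.H K 1 T) ↔
        ∀ c ∈ gamma K (E ⧸ LinearMap.range f), ∃ e ∈ gamma K E, Submodule.Quotient.mk e = c := by
      intro K
      constructor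
      · intro h c hc
        obtain ⟨z, rfl⟩ := (mem_range_h0 K S.X₃).2 hc
        obtain ⟨w, rfl⟩ := (exact₃ K 0 hS z).1 (Subsingleton.elim (α := LocCoh.H K 1 T) _ _)
        exact ⟨h0 K S.X₂ w, (mem_range_h0 K S.X₂).1 ⟨w, rfl⟩, (h0_map K S.g w).symm⟩
      · intro h
        refine subsingleton_of_forall_eq 0 fun y => ?_
        haveI := subsingleton_of_injective K 1 (ModuleCat.of R E) Nat.one_pos
        obtain ⟨z, rfl⟩ := (exact₁ K 0 hS y).1 (Subsingleton.elim (α := (HF K 1).obj (ModuleCat.of R E)) _ _)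
        obtain ⟨e, he, hec⟩ := h (h0 K S.X₃ z) ((mem_range_h0 K S.X₃).1 ⟨z, rfl⟩)
        obtain ⟨w, rfl⟩ := (mem_range_h0 K S.X₂).2 he
        rw [show z = (HF K 0).map S.g w from h0_injective K S.X₃ (hec.symm.trans (h0_map K S.g w).symm)]
        exact (exact₃ K 0 hS).apply_apply_eq_zero w
    rw [key, key]
    simp only [gamma_sup_span (J := J) hE, gamma_sup_span (J := J) hC]
  | succ i =>
    have key : ∀ K : Ideal R, Subsingleton (LocCoh.H K (i + 2) T) ↔ Subsingleton (LocCoh.H K (i + 1) (E ⧸ LinearMap.range f)) := by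
      intro K
      haveI := subsingleton_of_injective K (i + 1) (ModuleCat.of R E) (Nat.succ_pos i)
      haveI := subsingleton_of_injective K (i + 2) (ModuleCat.of R E) (Nat.succ_pos (i + 1))
      constructor
      · intro h
        refine subsingleton_of_forall_eq 0 fun z => ?_
        obtain ⟨w, rfl⟩ := (exact₃ K (i + 1) hS z).1 (Subsingleton.elim (α := LocCoh.H K (i + 2) T) _ _)
        rw [Subsingleton.elim (α := (HF K (i + 1)).obj (ModuleCat.of R E)) w 0]
        exact map_zero _
      · intro h
        refine subsingleton_of_forall_eq 0 fun y => ?_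
        obtain ⟨z, rfl⟩ := (exact₁ K (i + 1) hS y).1 (Subsingleton.elim (α := (HF K (i + 2)).obj (ModuleCat.of R E)) _ _)
        rw [Subsingleton.elim (α := LocCoh.H K (i + 1) (E ⧸ LinearMap.range f)) z 0]
        exact map_zero _
    exact (key _).trans ((subsingleton_sup_span_iff i _ hC).trans (key J).symm)

/-- local cohomology vanishes when an element of the ideal acts bijectively -/
theorem subsingleton_of_bijective {K : Ideal R} (hx : x ∈ K) (i : ℕ) (M : Type u) [AddCommGroup M] [Module R M]
    (h : Function.Bijective (fun m : M => x • m)) : Subsingleton (LocCoh.H K i M) := by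
  let g : ModuleCat.of R M ⟶ ModuleCat.of R M :=
    ModuleCat.ofHom (LinearEquiv.ofBijective (x • LinearMap.id : M →ₗ[R] M) h).symm.toLinearMap
  have hinj : ∀ z : (HF K i).obj (ModuleCat.of R M), x • z = 0 → z = 0 := by
    intro z hz
    obtain ⟨n, ξ, rfl⟩ := exists_toH K i (ModuleCat.of R M) z
    have h1 := congrArg ((HF K i).map g) hz
    rw [← map_smul, map_toH, map_zero, Ext.smul_eq_comp_mk₀,
      Ext.comp_assoc ξ (Ext.mk₀ _) (Ext.mk₀ g) (add_zero i) (zero_add 0) (by omega), Ext.mk₀_comp_mk₀,
      show (x • 𝟙 (ModuleCat.of R M)) ≫ g = 𝟙 _ from ModuleCat.hom_ext (LinearMap.ext fun m =>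
        (LinearEquiv.ofBijective (x • LinearMap.id : M →ₗ[R] M) h).symm_apply_apply m), Ext.comp_mk₀_id] at h1
    exact h1
  refine subsingleton_of_forall_eq 0 fun y => ?_
  obtain ⟨j, hj⟩ := isPowerTorsion_H K i (ModuleCat.of R M) y
  have hy : x ^ j • y = 0 := hj _ (Ideal.pow_mem_pow hx j)
  clear hj
  induction j with
  | zero => simpa using hy
  | succ j ihj => exact ihj (hinj _ (by rw [← mul_smul, ← pow_succ']; exact hy))

/-- adding a generator raises the cohomological dimension by at most one -/
theorem cdLE_sup_span {n : ℕ} (h : LocCoh.CdLE R J n) : LocCoh.CdLE R (J ⊔ Ideal.span {x}) (n + 1) := by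
  have hxmem : x ∈ J ⊔ Ideal.span {x} := Ideal.mem_sup_right (Ideal.mem_span_singleton_self x)
  have htor : ∀ (T : Type u) [AddCommGroup T] [Module R T], XTor x T → ∀ j, n < j →
      Subsingleton (LocCoh.H (J ⊔ Ideal.span {x}) j T) := by
    intro T _ _ hT j hj
    obtain ⟨k, rfl⟩ := Nat.exists_eq_succ_of_ne_zero (n := j) (by omega)
    exact (subsingleton_sup_span_iff k T hT).2 (h T (k + 1) hj)
  intro M _ _ i hi
  let K := gamma (Ideal.span {x}) M
  haveI := htor K isPowerTorsion_of_xTor_gamma i (by omega)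
  let S : Submonoid R := Submonoid.powers x
  let ι : (M ⧸ K) →ₗ[R] LocalizedModule S (M ⧸ K) := LocalizedModule.mkLinearMap S _
  have hι : Function.Injective ι := by
    refine (injective_iff_map_eq_zero ι).2 fun q hq => ?_
    obtain ⟨m, rfl⟩ := Submodule.Quotient.mk_surjective _ q
    obtain ⟨⟨_, k, rfl⟩, hk⟩ := (IsLocalizedModule.eq_zero_iff S ι).1 hq
    rw [Submonoid.smul_def, ← Submodule.Quotient.mk_smul, Submodule.Quotient.mk_eq_zero] at hk
    obtain ⟨l, hl⟩ := hk
    rw [Submodule.Quotient.mk_eq_zero]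
    refine ⟨l + k, fun a ha => ?_⟩
    rw [Ideal.span_singleton_pow] at ha
    obtain ⟨c, rfl⟩ := Ideal.mem_span_singleton'.1 ha
    rw [mul_smul, pow_add, mul_smul, hl _ (by rw [Ideal.span_singleton_pow]; exact Ideal.mem_span_singleton_self _), smul_zero]
  have hC : XTor x (LocalizedModule S (M ⧸ K) ⧸ LinearMap.range ι) := fun c => by
    obtain ⟨z, rfl⟩ := Submodule.Quotient.mk_surjective _ c
    obtain ⟨⟨q, ⟨_, k, rfl⟩⟩, hz⟩ := IsLocalizedModule.surj S ι z
    refine ⟨k, ?_⟩
    rw [← Submodule.Quotient.mk_smul, Submodule.Quotient.mk_eq_zero]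
    exact ⟨q, hz.symm⟩
  haveI : Subsingleton (LocCoh.H (J ⊔ Ideal.span {x}) i (M ⧸ K)) := by
    obtain ⟨j, rfl⟩ := Nat.exists_eq_succ_of_ne_zero (n := i) (by omega)
    haveI := htor _ hC j (by omega)
    haveI := subsingleton_of_bijective (K := J ⊔ Ideal.span {x}) hxmem (j + 1) (LocalizedModule S (M ⧸ K))
      ((Module.End.isUnit_iff _).1 (IsLocalizedModule.map_units ι (⟨x, Submonoid.mem_powers x⟩ : S)))
    let T : ShortComplex (ModuleCat.{u} R) := ShortComplex.mk (ModuleCat.ofHom ι)
      (ModuleCat.ofHom (LinearMap.range ι).mkQ)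
      (ModuleCat.hom_ext (LinearMap.ext fun z => (Submodule.Quotient.mk_eq_zero _).2 (LinearMap.mem_range_self ι z)))
    have hT : T.ShortExact :=
      { exact := (ShortComplex.ShortExact.moduleCat_exact_iff_function_exact T).2
          (LinearMap.exact_iff.2 (Submodule.ker_mkQ _))
        mono_f := (ModuleCat.mono_iff_injective _).2 hι
        epi_g := (ModuleCat.epi_iff_surjective _).2 (Submodule.mkQ_surjective _) }
    refine subsingleton_of_forall_eq 0 fun y => ?_
    obtain ⟨z, rfl⟩ := (exact₁ (J ⊔ Ideal.span {x}) j hT y).1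
      (Subsingleton.elim (α := LocCoh.H (J ⊔ Ideal.span {x}) (j + 1) (LocalizedModule S (M ⧸ K))) _ _)
    rw [Subsingleton.elim (α := LocCoh.H (J ⊔ Ideal.span {x}) j (LocalizedModule S (M ⧸ K) ⧸ LinearMap.range ι)) z 0]
    exact map_zero _
  exact subsingleton_mid _ i K.subtype K.mkQ Subtype.val_injective (Submodule.mkQ_surjective _)
    (LinearMap.exact_iff.2 ((Submodule.ker_mkQ _).trans (Submodule.range_subtype _).symm))

theorem cdLE_bot : LocCoh.CdLE R (⊥ : Ideal R) 0 := by
  intro M _ _ i hi
  obtain ⟨j, rfl⟩ := Nat.exists_eq_succ_of_ne_zero hi.ne'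
  exact subsingleton_torsion ⊥ j M fun m => ⟨1, fun a ha => by
    rw [pow_one, Ideal.mem_bot] at ha; rw [ha, zero_smul]⟩

theorem cdLE_card (s : Finset R) : LocCoh.CdLE R (Ideal.span (s : Set R)) s.card := by
  classical
  induction s using Finset.induction with
  | empty => rw [Finset.coe_empty, Ideal.span_empty, Finset.card_empty]; exact cdLE_bot
  | insert a s ha ih =>
    rw [Finset.coe_insert, Ideal.span_insert, sup_comm, Finset.card_insert_of_notMem ha]
    exact cdLE_sup_span ih

lemma subsingleton_pi (I : Ideal R) (i : ℕ) (h : Subsingleton (LocCoh.H I i R)) :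
    ∀ k : ℕ, Subsingleton (LocCoh.H I i (Fin k → R))
  | 0 => subsingleton_H_of_subsingleton I i _
  | k + 1 => by
    haveI := subsingleton_pi I i h k
    haveI : Subsingleton (LocCoh.H I i (R × (Fin k → R))) :=
      subsingleton_mid I i (LinearMap.inl R R (Fin k → R)) (LinearMap.snd R R (Fin k → R)) LinearMap.inl_injective
        LinearMap.snd_surjective (LinearMap.exact_iff.2 (LinearMap.range_inl R R (Fin k → R)).symm)
    exact (congrH I i (Fin.consLinearEquiv R (fun _ : Fin (k + 1) => R)).symm).toEquiv.subsingleton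

theorem cdLE_of_ring (I : Ideal R) (d : ℕ) (h : ∀ i, d < i → Subsingleton (LocCoh.H I i R)) : LocCoh.CdLE R I d := by
  obtain ⟨s, hs⟩ := IsNoetherian.noetherian I
  have hc : LocCoh.CdLE R I s.card := by rw [← hs]; exact cdLE_card s
  suffices key : ∀ (k : ℕ) (i : ℕ), d < i → s.card < i + k → ∀ (M : Type u) [AddCommGroup M] [Module R M],
      Subsingleton (LocCoh.H I i M) from fun M _ _ i hi => key (s.card + 1) i hi (by omega) M
  intro k
  induction k with
  | zero => exact fun i _ hk M _ _ => hc M i (by omega)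
  | succ k ih =>
    intro i hi hk M _ _
    refine subsingleton_of_finite I i M fun P hP => ?_
    haveI : Module.Finite R P := Module.Finite.iff_fg.2 hP
    obtain ⟨n, g, hg⟩ := Module.Finite.exists_fin' R P
    have hS : (LinearMap.shortComplexKer g).ShortExact := LinearMap.shortExact_shortComplexKer hg
    haveI := subsingleton_pi I i (h i hi) n
    haveI := ih (i + 1) (by omega) (by omega) (LinearMap.ker g)
    refine subsingleton_of_forall_eq 0 fun y => ?_
    obtain ⟨z, rfl⟩ := (exact₃ I i hS y).1 (Subsingleton.elim (α := LocCoh.H I (i + 1) (LinearMap.ker g)) _ _)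
    rw [Subsingleton.elim (α := LocCoh.H I i (Fin n → R)) z 0]
    exact map_zero _

end Groth.Agent.LocCoh
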