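import Groth.Agent.LocCoh.Cd
import Mathlib.RingTheory.Ideal.Maps
import Mathlib.RingTheory.Noetherian.Basic

/-!
# Independence of the base: local cohomology and restriction of scalars
-/

set_option autoImplicit false

universe u

open CategoryTheory CategoryTheory.Limits

noncomputable section

namespace Groth.Agent.LocCoh.Restrict

section General

variable {R' : Type u} [CommRing R'] [IsNoetherianRing R']

/-- on `E/Γ_y(E)`, `E` injective, `y` acts bijectively -/
theorem bijective_quot_gamma (y : R') (E : Type u) [AddCommGroup E] [Module R' E] [Module.Injective R' E] :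
    Function.Bijective (fun q : E ⧸ gamma (Ideal.span {y}) E => y • q) := by
  have hmem : ∀ (e : E), e ∈ gamma (Ideal.span {y}) E ↔ ∃ n, y ^ n • e = 0 := fun e => by
    refine exists_congr fun n => ⟨fun h => h _ (Ideal.pow_mem_pow (Ideal.mem_span_singleton_self y) n), fun h a ha => ?_⟩
    rw [Ideal.span_singleton_pow] at ha
    obtain ⟨c, rfl⟩ := Ideal.mem_span_singleton'.1 ha
    rw [mul_smul, h, smul_zero]
  refine ⟨fun p q hpq => ?_, fun q => ?_⟩
  · obtain ⟨a, rfl⟩ := Submodule.Quotient.mk_surjective _ p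
    obtain ⟨b, rfl⟩ := Submodule.Quotient.mk_surjective _ q
    have h : y • (a - b) ∈ gamma (Ideal.span {y}) E := by
      rw [smul_sub, ← Submodule.Quotient.eq, Submodule.Quotient.mk_smul, Submodule.Quotient.mk_smul]
      exact hpq
    obtain ⟨n, hn⟩ := (hmem _).1 h
    exact (Submodule.Quotient.eq _).2 ((hmem _).2 ⟨n + 1, by rw [pow_succ, mul_smul]; exact hn⟩)
  · obtain ⟨e, rfl⟩ := Submodule.Quotient.mk_surjective _ q
    let A : ℕ →o Submodule R' R' := ⟨fun k => LinearMap.ker (LinearMap.toSpanSingleton R' R' (y ^ k)),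
      monotone_nat_of_le_succ fun k r hr => by
        simp only [LinearMap.mem_ker, LinearMap.toSpanSingleton_apply, smul_eq_mul] at hr ⊢
        rw [pow_succ, ← mul_assoc, hr, zero_mul]⟩
    obtain ⟨l, hl⟩ := monotone_stabilizes_iff_noetherian.2 inferInstance A
    have hle : LinearMap.ker (LinearMap.toSpanSingleton R' R' (y ^ (l + 1))) ≤
        LinearMap.ker (LinearMap.toSpanSingleton R' E (y ^ l • e)) := fun r hr => by
      have h1 : r ∈ A l := by rw [hl (l + 1) (Nat.le_succ l)]; exact hr
      simp only [A, OrderHom.coe_mk, LinearMap.mem_ker, LinearMap.toSpanSingleton_apply, smul_eq_mul] at h1 ⊢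
      rw [← mul_smul, h1, zero_smul]
    let f' := (LinearMap.ker (LinearMap.toSpanSingleton R' R' (y ^ (l + 1)))).liftQ _ (le_refl (LinearMap.ker (LinearMap.toSpanSingleton R' R' (y ^ (l + 1)))))
    have hf' : Function.Injective f' := LinearMap.ker_eq_bot.1 (Submodule.ker_liftQ_eq_bot _ _ _ le_rfl)
    obtain ⟨h, hh⟩ := Module.Injective.out f' hf' (Submodule.liftQ _ _ hle)
    have he : h (y ^ (l + 1)) = y ^ l • e := by
      have h2 := hh (Submodule.Quotient.mk (1 : R'))
      change h (LinearMap.toSpanSingleton R' R' (y ^ (l + 1)) 1) = LinearMap.toSpanSingleton R' E (y ^ l • e) 1 at h2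
      simpa only [LinearMap.toSpanSingleton_apply, one_smul] using h2
    refine ⟨Submodule.Quotient.mk (h 1), (Submodule.Quotient.eq _).2 ((hmem _).2 ⟨l, ?_⟩)⟩
    rw [smul_sub, ← mul_smul, ← pow_succ, ← map_smul, smul_eq_mul, mul_one, he, sub_self]

lemma xTor_gamma (y : R') (E : Type u) [AddCommGroup E] [Module R' E] : XTor y (gamma (Ideal.span {y}) E) :=
  isPowerTorsion_of_xTor_gamma

end General

variable {R : Type u} [CommRing R] [IsNoetherianRing R] {R' : Type u} [CommRing R'] [IsNoetherianRing R'] [Algebra R R']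

lemma subsingleton_injective_span (i : ℕ) : ∀ (s : Finset R) (E : Type u) [AddCommGroup E] [Module R' E] [Module R E]
    [IsScalarTower R R' E] [Module.Injective R' E], Subsingleton (LocCoh.H (Ideal.span (s : Set R)) (i + 1) E) := by
  classical
  intro s
  induction s using Finset.induction with
  | empty =>
    intro E _ _ _ _ _
    rw [Finset.coe_empty, Ideal.span_empty]
    exact cdLE_bot E (i + 1) (Nat.succ_pos i)
  | insert x s hxs ih =>
    intro E _ _ _ _ _
    rw [Finset.coe_insert, Ideal.span_insert, sup_comm]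
    let K := gamma (Ideal.span {algebraMap R R' x}) E
    haveI : Module.Injective R' K := injective_gamma _ E
    haveI : Subsingleton (LocCoh.H (Ideal.span (s : Set R) ⊔ Ideal.span {x}) (i + 1) K) :=
      (subsingleton_sup_span_iff i K fun t => (xTor_gamma (algebraMap R R' x) E t).imp fun k hk => by
        rwa [← map_pow, algebraMap_smul] at hk).2 (ih K)
    haveI : Subsingleton (LocCoh.H (Ideal.span (s : Set R) ⊔ Ideal.span {x}) (i + 1) (E ⧸ K)) := by
      refine subsingleton_of_bijective (Ideal.mem_sup_right (Ideal.mem_span_singleton_self x)) (i + 1) _ ?_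
      have := bijective_quot_gamma (algebraMap R R' x) E
      simpa only [algebraMap_smul] using this
    exact subsingleton_mid _ (i + 1) (K.subtype.restrictScalars R) (K.mkQ.restrictScalars R) Subtype.val_injective
      (Submodule.mkQ_surjective K) (LinearMap.exact_iff.2 ((Submodule.ker_mkQ K).trans (Submodule.range_subtype K).symm) :
        Function.Exact K.subtype K.mkQ)

/-- injective `R'`-modules are `Γ_I`-acyclic over `R` -/
theorem subsingleton_injective (I : Ideal R) (i : ℕ) (hi : 0 < i) (E : Type u) [AddCommGroup E] [Module R' E] [Module R E]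
    [IsScalarTower R R' E] [Module.Injective R' E] : Subsingleton (LocCoh.H I i E) := by
  obtain ⟨s, rfl⟩ := IsNoetherian.noetherian I
  obtain ⟨j, rfl⟩ := Nat.exists_eq_succ_of_ne_zero hi.ne'
  exact subsingleton_injective_span (R' := R') j s E

lemma exists_addEquiv_of_range {A B M : Type u} [AddCommGroup A] [AddCommGroup B] [AddCommGroup M] (f : A →+ M) (g : B →+ M)
    (hf : Function.Injective f) (hg : Function.Injective g) (h : ∀ m, (∃ a, f a = m) ↔ ∃ b, g b = m) :
    ∃ e : A ≃+ B, ∀ a, g (e a) = f a := by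
  choose φ hφ using fun a => (h (f a)).1 ⟨a, rfl⟩
  have hadd : ∀ a b, φ (a + b) = φ a + φ b := fun a b => hg (by rw [map_add, hφ, hφ, hφ, map_add])
  refine ⟨AddEquiv.ofBijective (AddMonoidHom.mk' φ hadd) ⟨fun a b hab => hf ?_, fun b => ?_⟩, hφ⟩
  · rw [← hφ a, ← hφ b]; exact congrArg g hab
  · obtain ⟨a, ha⟩ := (h (g b)).2 ⟨b, rfl⟩
    exact ⟨a, hg ((hφ a).trans ha)⟩

lemma exists_addEquiv_transfer {A B C D : Type u} [AddCommGroup A] [AddCommGroup B] [AddCommGroup C] [AddCommGroup D]
    (f : A →+ C) (g : B →+ D) (hf : Function.Surjective f) (hg : Function.Surjective g) (e : A ≃+ B)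
    (hk : ∀ a, f a = 0 ↔ g (e a) = 0) : ∃ φ : C ≃+ D, ∀ a, φ (f a) = g (e a) := by
  choose s hs using hf
  have key : ∀ a, g (e (s (f a))) = g (e a) := fun a => by
    rw [← sub_eq_zero, ← map_sub, ← map_sub, ← hk, map_sub, hs, sub_self]
  refine ⟨AddEquiv.ofBijective (AddMonoidHom.mk' (fun c => g (e (s c))) fun c c' => ?_) ⟨fun c c' h => ?_, fun d => ?_⟩, key⟩
  · show g (e (s (c + c'))) = g (e (s c)) + g (e (s c'))
    conv_lhs => rw [← hs c, ← hs c', ← map_add, key, map_add, map_add]
  · rw [← hs c, ← hs c', ← sub_eq_zero, ← map_sub, hk, map_sub, map_sub, sub_eq_zero]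
    exact h
  · obtain ⟨b, rfl⟩ := hg d
    exact ⟨f (e.symm b), (key _).trans (congrArg g (e.apply_symm_apply b))⟩

/-- the condition: the same torsion elements -/
def SameTorsion (I : Ideal R) (I' : Ideal R') : Prop :=
  ∀ (M : Type u) [AddCommGroup M] [Module R' M] [Module R M] [IsScalarTower R R' M] (m : M),
    (∃ n, ∀ a ∈ I' ^ n, a • m = 0) ↔ (∃ n, ∀ a ∈ I ^ n, a • m = 0)

omit [IsNoetherianRing R] [IsNoetherianRing R'] in
theorem sameTorsion_map (I : Ideal R) : SameTorsion I (I.map (algebraMap R R')) := by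
  intro M _ _ _ _ m
  refine exists_congr fun n => ⟨fun h a ha => ?_, fun h a ha => ?_⟩
  · rw [← algebraMap_smul R' a m]
    exact h _ (by rw [← Ideal.map_pow]; exact Ideal.mem_map_of_mem _ ha)
  · rw [← Ideal.map_pow] at ha
    have hle : (I ^ n).map (algebraMap R R') ≤ (Submodule.span R' {m}).annihilator := Ideal.map_le_iff_le_comap.2 fun b hb =>
      (Submodule.mem_annihilator_span_singleton _ _).2 ((algebraMap_smul R' b m).trans (h b hb))
    exact (Submodule.mem_annihilator_span_singleton _ _).1 (hle ha)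

/-- `H^i_{I'}(M) ≅ H^i_I(M)` for an `R'`-module `M` -/
theorem exists_equiv {I : Ideal R} {I' : Ideal R'} (hT : SameTorsion I I') : ∀ (i : ℕ) (M : Type u) [AddCommGroup M]
    [Module R' M] [Module R M] [IsScalarTower R R' M],
    ∃ φ : LocCoh.H I' i M ≃+ LocCoh.H I i M, ∀ (r : R) (x : LocCoh.H I' i M), φ (algebraMap R R' r • x) = r • φ x := by
  have h0eq : ∀ (M : Type u) [AddCommGroup M] [Module R' M] [Module R M] [IsScalarTower R R' M],
      ∃ φ : LocCoh.H I' 0 M ≃+ LocCoh.H I 0 M, ∀ x, h0 I (ModuleCat.of R M) (φ x) = h0 I' (ModuleCat.of R' M) x := by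
    intro M _ _ _ _
    refine exists_addEquiv_of_range (h0 I' (ModuleCat.of R' M)).toAddMonoidHom (h0 I (ModuleCat.of R M)).toAddMonoidHom
      (h0_injective I' _) (h0_injective I _) fun m => ?_
    exact ((mem_range_h0 I' (ModuleCat.of R' M)).trans (hT M m)).trans (mem_range_h0 I (ModuleCat.of R M)).symm
  intro i
  induction i with
  | zero =>
    intro M _ _ _ _
    obtain ⟨φ, hφ⟩ := h0eq M
    refine ⟨φ, fun r x => h0_injective I (ModuleCat.of R M) ?_⟩
    rw [LinearMap.map_smul (h0 I _), hφ, hφ, LinearMap.map_smul (h0 I' _)]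
    exact algebraMap_smul R' r _
  | succ i ih =>
    intro M _ _ _ _
    let ⟨pres⟩ := EnoughInjectives.presentation (ModuleCat.of R' M)
    haveI := pres.injective
    letI : Module R pres.J := Module.compHom pres.J (algebraMap R R')
    haveI : IsScalarTower R R' pres.J := IsScalarTower.of_algebraMap_smul fun _ _ => rfl
    haveI : Module.Injective R' pres.J :=
      (Module.injective_iff_injective_object R' pres.J).2 (inferInstance : Injective (ModuleCat.of R' pres.J))
    have hinj : Function.Injective pres.f.hom := (ModuleCat.mono_iff_injective pres.f).1 pres.mono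
    let f : M →ₗ[R'] pres.J := pres.f.hom
    let C : Type u := pres.J ⧸ LinearMap.range f
    let g : pres.J →ₗ[R'] C := (LinearMap.range f).mkQ
    have hfg : Function.Exact f g := LinearMap.exact_iff.2 (Submodule.ker_mkQ _)
    have hg : Function.Surjective g := Submodule.mkQ_surjective _
    let S' : ShortComplex (ModuleCat.{u} R') := ShortComplex.mk (ModuleCat.ofHom f) (ModuleCat.ofHom g)
      (ModuleCat.hom_ext (LinearMap.ext fun z => hfg.apply_apply_eq_zero z))
    let S : ShortComplex (ModuleCat.{u} R) := ShortComplex.mk (ModuleCat.ofHom (f.restrictScalars R))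
      (ModuleCat.ofHom (g.restrictScalars R)) (ModuleCat.hom_ext (LinearMap.ext fun z => hfg.apply_apply_eq_zero z))
    have hS' : S'.ShortExact :=
      { exact := (ShortComplex.ShortExact.moduleCat_exact_iff_function_exact S').2 hfg
        mono_f := (ModuleCat.mono_iff_injective _).2 hinj
        epi_g := (ModuleCat.epi_iff_surjective _).2 hg }
    have hS : S.ShortExact :=
      { exact := (ShortComplex.ShortExact.moduleCat_exact_iff_function_exact S).2 hfg
        mono_f := (ModuleCat.mono_iff_injective _).2 hinj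
        epi_g := (ModuleCat.epi_iff_surjective _).2 hg }
    have hJ' : Subsingleton ((HF I' (i + 1)).obj S'.X₂) := subsingleton_of_injective I' (i + 1) pres.J (Nat.succ_pos i)
    have hJ : Subsingleton ((HF I (i + 1)).obj S.X₂) := subsingleton_injective (R' := R') I (i + 1) (Nat.succ_pos i) pres.J
    have hsur' : Function.Surjective (delta I' i hS') := fun y => (exact₁ I' i hS' y).1 (Subsingleton.elim _ _)
    have hsur : Function.Surjective (delta I i hS) := fun y => (exact₁ I i hS y).1 (Subsingleton.elim _ _)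
    obtain ⟨e, he, hk⟩ : ∃ e : LocCoh.H I' i C ≃+ LocCoh.H I i C,
        (∀ (r : R) (x : LocCoh.H I' i C), e (algebraMap R R' r • x) = r • e x) ∧
        ∀ x, delta I' i hS' x = 0 ↔ delta I i hS (e x) = 0 := by
      cases i with
      | zero =>
        obtain ⟨e, he⟩ := h0eq C
        obtain ⟨eJ, heJ⟩ := h0eq pres.J
        refine ⟨e, fun r x => h0_injective I (ModuleCat.of R C) ?_, fun x => ?_⟩
        · rw [LinearMap.map_smul (h0 I _), he, he, LinearMap.map_smul (h0 I' _)]
          exact algebraMap_smul R' r _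
        · have hnat : ∀ z, e ((HF I' 0).map S'.g z) = (HF I 0).map S.g (eJ z) := fun z => by
            refine h0_injective I (ModuleCat.of R C) ((he _).trans ?_)
            exact ((h0_map I' S'.g z).trans (congrArg g (heJ z).symm)).trans (h0_map I S.g (eJ z)).symm
          constructor
          · intro hx
            obtain ⟨z, rfl⟩ := (exact₃ I' 0 hS' x).1 hx
            exact (congrArg (delta I 0 hS) (hnat z)).trans ((exact₃ I 0 hS).apply_apply_eq_zero (eJ z))
          · intro hx
            obtain ⟨z, hz⟩ := (exact₃ I 0 hS (e x)).1 hx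
            obtain ⟨z', rfl⟩ := eJ.surjective z
            rw [show x = (HF I' 0).map S'.g z' from e.injective (hz.symm.trans (hnat z').symm)]
            exact (exact₃ I' 0 hS').apply_apply_eq_zero z'
      | succ j =>
        obtain ⟨e, he⟩ := ih C
        have h1 : Subsingleton ((HF I' (j + 1)).obj S'.X₂) := subsingleton_of_injective I' (j + 1) pres.J (Nat.succ_pos j)
        have h2 : Subsingleton ((HF I (j + 1)).obj S.X₂) := subsingleton_injective (R' := R') I (j + 1) (Nat.succ_pos j) pres.J
        refine ⟨e, he, fun x => ⟨fun hx => ?_, fun hx => ?_⟩⟩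
        · obtain ⟨z, rfl⟩ := (exact₃ I' (j + 1) hS' x).1 hx
          rw [Subsingleton.elim z 0]
          exact (congrArg (delta I (j + 1) hS) ((congrArg e (map_zero _)).trans (map_zero e))).trans (map_zero _)
        · obtain ⟨z, hz⟩ := (exact₃ I (j + 1) hS (e x)).1 hx
          rw [Subsingleton.elim z 0] at hz
          rw [show x = 0 from e.injective ((hz.symm.trans (map_zero _)).trans (map_zero e).symm)]
          exact map_zero _
    obtain ⟨φ, hφ⟩ := exists_addEquiv_transfer (delta I' i hS').toAddMonoidHom (delta I i hS).toAddMonoidHom hsur' hsur e hk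
    refine ⟨φ, fun r x => ?_⟩
    obtain ⟨a, rfl⟩ := hsur' x
    exact ((congrArg φ (map_smul (delta I' i hS') (algebraMap R R' r) a).symm).trans (hφ _)).trans
      ((congrArg (delta I i hS) (he r a)).trans ((map_smul (delta I i hS) r (e a)).trans (congrArg (r • ·) (hφ a).symm)))

theorem subsingleton_iff {I : Ideal R} {I' : Ideal R'} (hT : SameTorsion I I') (i : ℕ) (M : Type u) [AddCommGroup M]
    [Module R' M] [Module R M] [IsScalarTower R R' M] : Subsingleton (LocCoh.H I' i M) ↔ Subsingleton (LocCoh.H I i M) := by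
  obtain ⟨φ, -⟩ := exists_equiv hT i M
  exact φ.toEquiv.subsingleton_congr

theorem cdLE_map {I : Ideal R} {d : ℕ} (h : LocCoh.CdLE R I d) : LocCoh.CdLE R' (I.map (algebraMap R R')) d := by
  intro M _ _ i hi
  letI : Module R M := Module.compHom M (algebraMap R R')
  haveI : IsScalarTower R R' M := IsScalarTower.of_algebraMap_smul fun _ _ => rfl
  exact (subsingleton_iff (sameTorsion_map I) i M).2 (h M i hi)

omit [IsNoetherianRing R'] [Algebra R R'] in
theorem sameTorsion_of_radical {I J : Ideal R} (h : I.radical = J.radical) : SameTorsion (R' := R) I J := by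
  have key : ∀ (I J : Ideal R), I ≤ J.radical → ∀ (M : Type u) [AddCommGroup M] [Module R M] (m : M),
      (∃ n, ∀ a ∈ J ^ n, a • m = 0) → ∃ n, ∀ a ∈ I ^ n, a • m = 0 := fun I J hle M _ _ m ⟨n, hn⟩ => by
    obtain ⟨k, hk⟩ := Ideal.exists_pow_le_of_le_radical_of_fg hle (IsNoetherian.noetherian I)
    exact ⟨k * n, fun a ha => hn a (Ideal.pow_right_mono hk n (by rwa [← pow_mul]))⟩
  intro M _ m₁ m₂ ht m
  have heq : m₁ = m₂ := Module.ext' m₁ m₂ fun r x => by
    have h1 := ht.smul_assoc r 1 x
    rw [smul_eq_mul, mul_one] at h1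
    exact h1.trans (congrArg _ (@one_smul R M _ m₁.toMulAction x))
  subst heq
  exact ⟨key I J (h ▸ Ideal.le_radical) M m, key J I (h ▸ Ideal.le_radical) M m⟩

theorem congr_radical {I J : Ideal R} (h : I.radical = J.radical) (i : ℕ) (M : Type u) [AddCommGroup M] [Module R M] :
    Nonempty (LocCoh.H J i M ≃ₗ[R] LocCoh.H I i M) := by
  obtain ⟨φ, hφ⟩ := exists_equiv (R' := R) (sameTorsion_of_radical h) i M
  exact ⟨φ.toLinearEquiv hφ⟩

end Groth.Agent.LocCoh.Restrict
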