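import Groth.Prelude.Def_DualLC
import Mathlib.RingTheory.Length
import Mathlib.RingTheory.Ideal.Quotient.Operations
import Mathlib.RingTheory.LocalRing.MaximalIdeal.Basic

/-!
# Independent families: splitting one member as a product
-/

set_option autoImplicit false

universe u

noncomputable section

namespace Groth.Agent.LocCoh.Indep

variable {A : Type u} [CommRing A] {r : ℕ} {f : Fin r → A} {j : Fin r} {g : A}

lemma span_update_le : Ideal.span (Set.range (Function.update f j (f j * g))) ≤ Ideal.span (Set.range f) := by
  refine Ideal.span_le.2 (Set.range_subset_iff.2 fun i => ?_)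
  rcases eq_or_ne i j with rfl | hi
  · rw [Function.update_self]; exact Ideal.mul_mem_right _ _ (Ideal.subset_span ⟨i, rfl⟩)
  · rw [Function.update_of_ne hi]; exact Ideal.subset_span ⟨i, rfl⟩

lemma span_update_le' : Ideal.span (Set.range (Function.update f j (f j * g))) ≤
    Ideal.span (Set.range (Function.update f j g)) := by
  refine Ideal.span_le.2 (Set.range_subset_iff.2 fun i => ?_)
  rcases eq_or_ne i j with rfl | hi
  · rw [Function.update_self]
    refine Ideal.mul_mem_left _ _ (Ideal.subset_span ⟨i, ?_⟩)
    rw [Function.update_self]
  · exact Ideal.subset_span ⟨i, by rw [Function.update_of_ne hi, Function.update_of_ne hi]⟩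

lemma sum_update (a : Fin r → A) (x : A) (i : Fin r) :
    ∑ l, a l * Function.update f i x l = a i * x + ∑ l ∈ Finset.univ.erase i, a l * f l := by
  rw [← Finset.add_sum_erase _ _ (Finset.mem_univ i), Function.update_self]
  exact congrArg _ (Finset.sum_congr rfl fun l hl => by rw [Function.update_of_ne (Finset.ne_of_mem_erase hl)])

theorem independent (h : Dual2.Independent (Function.update f j (f j * g))) : Dual2.Independent f := by
  intro a ha i
  have hf : ∑ l, a l * f l = a j * f j + ∑ l ∈ Finset.univ.erase j, a l * f l :=
    (Finset.add_sum_erase _ _ (Finset.mem_univ j)).symm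
  have hje : ∀ l ∈ Finset.univ.erase j, l ≠ j := fun l hl => Finset.ne_of_mem_erase hl
  have h1 : a j ∈ Ideal.span (Set.range (Function.update f j (f j * g))) := by
    have := h (Function.update (fun l => g * a l) j (a j)) (by
      rw [sum_update, Function.update_self,
        Finset.sum_congr rfl fun l hl => show Function.update (fun l => g * a l) j (a j) l * f l = g * (a l * f l) by
          rw [Function.update_of_ne (hje l hl), mul_assoc],
        ← Finset.mul_sum, show a j * (f j * g) = g * (a j * f j) by ring, ← mul_add, ← hf, ha, mul_zero]) j
    rwa [Function.update_self] at this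
  rcases eq_or_ne i j with rfl | hi
  · exact span_update_le h1
  obtain ⟨c, hc⟩ := (Ideal.mem_span_range_iff_exists_fun).1 h1
  have h2 := h (Function.update (fun l => a l + c l * f j) j (c j * f j)) (by
    rw [sum_update, Function.update_self,
      Finset.sum_congr rfl fun l hl => show Function.update (fun l => a l + c l * f j) j (c j * f j) l * f l
          = a l * f l + f j * (c l * f l) by
        rw [Function.update_of_ne (hje l hl)]; ring,
      Finset.sum_add_distrib, ← Finset.mul_sum]
    rw [sum_update] at hc
    rw [hf, ← hc] at ha
    linear_combination ha) i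
  rw [Function.update_of_ne hi] at h2
  have h3 : c i * f j ∈ Ideal.span (Set.range f) := Ideal.mul_mem_left _ _ (Ideal.subset_span ⟨j, rfl⟩)
  simpa using Ideal.sub_mem _ (span_update_le h2) h3

theorem independent' (h : Dual2.Independent (Function.update f j (f j * g))) :
    Dual2.Independent (Function.update f j g) :=
  independent (f := Function.update f j g) (j := j) (g := f j)
    (by rwa [Function.update_self, Function.update_idem, mul_comm])

theorem length_eq (h : Dual2.Independent (Function.update f j (f j * g))) :
    Module.length A (A ⧸ Ideal.span (Set.range (Function.update f j (f j * g)))) =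
      Module.length A (A ⧸ Ideal.span (Set.range f)) +
      Module.length A (A ⧸ Ideal.span (Set.range (Function.update f j g))) := by
  let J := Ideal.span (Set.range (Function.update f j (f j * g)))
  let K := Ideal.span (Set.range (Function.update f j g))
  let L := Ideal.span (Set.range f)
  have hgK : g ∈ K := Ideal.subset_span ⟨j, Function.update_self ..⟩
  have hKJ : ∀ x ∈ K, f j * x ∈ J := by
    intro x hx
    induction hx using Submodule.span_induction with
    | mem x hx =>
      obtain ⟨i, rfl⟩ := hx
      rcases eq_or_ne i j with rfl | hi
      · rw [Function.update_self]; exact Ideal.subset_span ⟨i, Function.update_self ..⟩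
      · rw [Function.update_of_ne hi]
        exact Ideal.mul_mem_left _ _ (Ideal.subset_span ⟨i, Function.update_of_ne hi ..⟩)
    | zero => rw [mul_zero]; exact zero_mem _
    | add x y _ _ hx hy => rw [mul_add]; exact add_mem hx hy
    | smul a x _ hx => rw [smul_eq_mul, mul_left_comm]; exact Ideal.mul_mem_left _ _ hx
  let φ : (A ⧸ K) →ₗ[A] (A ⧸ J) := Submodule.mapQ K J (LinearMap.mulLeft A (f j)) hKJ
  let ψ : (A ⧸ J) →ₗ[A] (A ⧸ L) := Submodule.mapQ J L LinearMap.id span_update_le
  have hφ : Function.Injective φ := by
    refine (injective_iff_map_eq_zero φ).2 fun q hq => ?_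
    obtain ⟨x, rfl⟩ := Submodule.Quotient.mk_surjective _ q
    rw [Submodule.Quotient.mk_eq_zero]
    have hx : f j * x ∈ J := (Submodule.Quotient.mk_eq_zero J).1 hq
    obtain ⟨c, hc⟩ := (Ideal.mem_span_range_iff_exists_fun).1 hx
    rw [sum_update] at hc
    have h1 := h (Function.update (fun l => g * c l) j (c j * g - x)) (by
      rw [sum_update, Function.update_self,
        Finset.sum_congr rfl fun l hl => show Function.update (fun l => g * c l) j (c j * g - x) l * f l = g * (c l * f l) by
          rw [Function.update_of_ne (Finset.ne_of_mem_erase hl), mul_assoc], ← Finset.mul_sum]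
      linear_combination g * hc) j
    rw [Function.update_self] at h1
    exact (Submodule.sub_mem_iff_right _ (Ideal.mul_mem_left K (c j) hgK)).1 (span_update_le' h1)
  have hψ : Function.Surjective ψ := fun q => by
    obtain ⟨x, rfl⟩ := Submodule.Quotient.mk_surjective _ q
    exact ⟨Submodule.Quotient.mk x, rfl⟩
  have hex : Function.Exact φ ψ := fun q => by
    obtain ⟨x, rfl⟩ := Submodule.Quotient.mk_surjective _ q
    constructor
    · intro hq
      obtain ⟨c, hc⟩ := (Ideal.mem_span_range_iff_exists_fun).1 ((Submodule.Quotient.mk_eq_zero L).1 hq : x ∈ L)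
      refine ⟨Submodule.Quotient.mk (c j), (Submodule.Quotient.eq J).2 ?_⟩
      rw [← Finset.add_sum_erase _ _ (Finset.mem_univ j)] at hc
      rw [← hc, LinearMap.mulLeft_apply,
        show f j * c j - (c j * f j + ∑ l ∈ Finset.univ.erase j, c l * f l) = -∑ l ∈ Finset.univ.erase j, c l * f l by ring]
      exact neg_mem (Ideal.sum_mem _ fun l hl => Ideal.mul_mem_left _ _
        (Ideal.subset_span ⟨l, Function.update_of_ne (Finset.ne_of_mem_erase hl) ..⟩))
    · rintro ⟨y, hy⟩
      obtain ⟨y, rfl⟩ := Submodule.Quotient.mk_surjective _ y
      rw [← hy]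
      exact (Submodule.Quotient.mk_eq_zero L).2 (Ideal.mul_mem_right _ _ (Ideal.subset_span ⟨j, rfl⟩))
  rw [Module.length_eq_add_of_exact φ ψ hφ hψ hex, add_comm]

/-- the length of the quotient by independent powers of generators of the maximal ideal -/
theorem length_powers [IsLocalRing A] (x : Fin r → A) (hx : Ideal.span (Set.range x) = IsLocalRing.maximalIdeal A) :
    ∀ (N : ℕ) (e : Fin r → ℕ), ∑ i, e i = N → (∀ i, 0 < e i) → Dual2.Independent (fun i => x i ^ e i) →
    Module.length A (A ⧸ Ideal.span (Set.range (fun i => x i ^ e i))) = ∏ i, (e i : ℕ∞) := by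
  intro N
  induction N using Nat.strong_induction_on with
  | _ N ih =>
    intro e hN he hind
    by_cases h1 : ∀ i, e i = 1
    · have hfe : (fun i => x i ^ e i) = x := funext fun i => by rw [h1 i, pow_one]
      rw [hfe, hx, Finset.prod_eq_one fun i _ => by rw [h1 i, Nat.cast_one], Module.length_eq_one_iff]
      exact isSimpleModule_iff_isCoatom.2 (IsLocalRing.maximalIdeal.isMaximal A).out
    · push Not at h1
      obtain ⟨j, hj⟩ := h1
      have hj2 : 2 ≤ e j := by have := he j; omega
      let e1 := Function.update e j 1
      let e2 := Function.update e j (e j - 1)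
      let f : Fin r → A := fun i => x i ^ e1 i
      have hf2 : Function.update f j (x j ^ (e j - 1)) = fun i => x i ^ e2 i := by
        funext i
        rcases eq_or_ne i j with rfl | hi
        · simp [e2]
        · simp [f, e1, e2, Function.update_of_ne hi]
      have hfe : Function.update f j (f j * x j ^ (e j - 1)) = fun i => x i ^ e i := by
        funext i
        rcases eq_or_ne i j with rfl | hi
        · rw [Function.update_self, show f i = x i ^ 1 by simp [f, e1], ← pow_add]; congr 1; omega
        · simp [f, e1, Function.update_of_ne hi]
      rw [← hfe] at hind ⊢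
      have hsum : ∀ v, ∑ i, Function.update e j v i + e j = N + v := by
        intro v
        have h1 : e j + ∑ x ∈ Finset.univ.erase j, e x = ∑ x, e x := Finset.add_sum_erase Finset.univ (fun i => e i) (Finset.mem_univ j)
        have h2 := Finset.add_sum_erase Finset.univ (Function.update e j v) (Finset.mem_univ j)
        rw [Function.update_self, Finset.sum_congr rfl fun i hi => Function.update_of_ne (Finset.ne_of_mem_erase hi) v e] at h2
        have h3 : (Finset.univ.erase j).sum e = ∑ x ∈ Finset.univ.erase j, e x := rfl
        omega
      have hpos : ∀ v, 0 < v → ∀ i, 0 < Function.update e j v i := fun v hv i => by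
        rcases eq_or_ne i j with rfl | hi
        · simpa using hv
        · simpa [Function.update_of_ne hi] using he i
      rw [length_eq hind, hf2]
      have i1 := ih (∑ i, e1 i) (by have := hsum 1; simp only [e1]; omega) e1 rfl (hpos 1 one_pos) (independent hind)
      have i2 := ih (∑ i, e2 i) (by have := hsum (e j - 1); simp only [e2]; omega) e2 rfl (hpos _ (by omega))
        (by rw [← hf2]; exact independent' hind)
      rw [show Ideal.span (Set.range f) = Ideal.span (Set.range fun i => x i ^ e1 i) from rfl, i1, i2,
        ← Finset.mul_prod_erase _ _ (Finset.mem_univ j), ← Finset.mul_prod_erase _ _ (Finset.mem_univ j),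
        ← Finset.mul_prod_erase _ (fun i => (e i : ℕ∞)) (Finset.mem_univ j)]
      simp only [e1, e2, Function.update_self]
      rw [Finset.prod_congr rfl fun i hi => congrArg (Nat.cast (R := ℕ∞)) (Function.update_of_ne (Finset.ne_of_mem_erase hi) 1 e),
        Finset.prod_congr rfl fun i hi => congrArg (Nat.cast (R := ℕ∞)) (Function.update_of_ne (Finset.ne_of_mem_erase hi) (e j - 1) e),
        ← add_mul, ← Nat.cast_add, show 1 + (e j - 1) = e j by omega]

end Groth.Agent.LocCoh.Indep
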