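import Groth.Agent.LocCoh.Torsion
import Mathlib.RingTheory.Regular.Category
import Mathlib.RingTheory.Ideal.AssociatedPrime.Finiteness
import Mathlib.RingTheory.Ideal.AssociatedPrime.Basic

/-!
# Sequences and reductions: multiplication maps, quotient by the torsion submodule
-/

set_option autoImplicit false

universe u

open CategoryTheory CategoryTheory.Abelian
open scoped Pointwise

noncomputable section

namespace Groth.Agent.LocCoh

variable {R : Type u} [CommRing R] (I : Ideal R)

lemma map_smul_id (i : ℕ) (M : ModuleCat.{u} R) (x : R) (y : (HF I i).obj M) :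
    (HF I i).map (x • 𝟙 M) y = x • y := by
  obtain ⟨n, ξ, rfl⟩ := exists_toH I i M y
  rw [map_toH, Ext.mk₀_smul, Ext.comp_smul, Ext.comp_mk₀_id, map_smul]

/-- invariance under isomorphism -/
def congrH (i : ℕ) {M N : Type u} [AddCommGroup M] [Module R M] [AddCommGroup N] [Module R N] (e : M ≃ₗ[R] N) :
    LocCoh.H I i M ≃ₗ[R] LocCoh.H I i N :=
  ((HF I i).mapIso e.toModuleIso).toLinearEquiv

/-- the sequence of a submodule -/
abbrev subSeq {M : Type u} [AddCommGroup M] [Module R M] (K : Submodule R M) : ShortComplex (ModuleCat.{u} R) :=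
  ShortComplex.mk (ModuleCat.ofHom K.subtype) (ModuleCat.ofHom K.mkQ)
    (ModuleCat.hom_ext (LinearMap.ext fun x => (Submodule.Quotient.mk_eq_zero _).2 x.2))

lemma subSeq_shortExact {M : Type u} [AddCommGroup M] [Module R M] (K : Submodule R M) : (subSeq K).ShortExact :=
  { exact := (ShortComplex.ShortExact.moduleCat_exact_iff_function_exact (subSeq K)).2
      (LinearMap.exact_iff.2 ((Submodule.ker_mkQ _).trans (Submodule.range_subtype _).symm))
    mono_f := (ModuleCat.mono_iff_injective _).2 Subtype.val_injective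
    epi_g := (ModuleCat.epi_iff_surjective _).2 (Submodule.mkQ_surjective _) }

variable [IsNoetherianRing R] {M : Type u} [AddCommGroup M] [Module R M]

/-- killing a power torsion submodule does not change `H^{i+1}` -/
theorem bijective_mkQ (K : Submodule R M) (hK : LocCoh.IsPowerTorsion I K) (i : ℕ) :
    Function.Bijective ((HF I (i + 1)).map (subSeq K).g).hom := by
  haveI h1 : Subsingleton ((HF I (i + 1)).obj (subSeq K).X₁) := subsingleton_torsion I i K hK
  haveI h2 : Subsingleton ((HF I (i + 1 + 1)).obj (subSeq K).X₁) := subsingleton_torsion I (i + 1) K hK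
  refine ⟨(injective_iff_map_eq_zero _).2 fun x hx => ?_, fun y => ?_⟩
  · obtain ⟨z, rfl⟩ := (exact₂ I (i + 1) (subSeq_shortExact K) x).1 hx
    rw [Subsingleton.elim z 0, map_zero]
  · exact (exact₃ I (i + 1) (subSeq_shortExact K) y).1 (Subsingleton.elim _ _)

def quotTorsionEquiv (K : Submodule R M) (hK : LocCoh.IsPowerTorsion I K) (i : ℕ) :
    LocCoh.H I (i + 1) M ≃ₗ[R] LocCoh.H I (i + 1) (M ⧸ K) :=
  LinearEquiv.ofBijective ((HF I (i + 1)).map (subSeq K).g).hom (bijective_mkQ I K hK i)

omit [IsNoetherianRing R] in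
lemma gamma_le_iff {m : M} : m ∈ gamma I M ↔ ∃ n, ∀ a ∈ I ^ n, a • m = 0 := Iff.rfl

lemma exists_pow_gamma [Module.Finite R M] : ∃ n, ∀ a ∈ I ^ n, ∀ m ∈ gamma I M, a • m = 0 := by
  obtain ⟨n, hn⟩ := exists_pow_kills I (isPowerTorsion_gamma I M) (IsNoetherian.noetherian (⊤ : Submodule R (gamma I M)))
  exact ⟨n, fun a ha m hm => congrArg Subtype.val (hn a ha ⟨m, hm⟩ trivial)⟩

/-- `M/Γ(M)` has no torsion -/
lemma gamma_quotient_eq_bot [Module.Finite R M] : gamma I (M ⧸ gamma I M) = ⊥ := by
  rw [eq_bot_iff]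
  intro q hq
  obtain ⟨m, rfl⟩ := Submodule.Quotient.mk_surjective _ q
  obtain ⟨n, hn⟩ := hq
  obtain ⟨k, hk⟩ := exists_pow_gamma I (M := M)
  rw [Submodule.mem_bot, Submodule.Quotient.mk_eq_zero]
  refine ⟨k + n, fun a ha => ?_⟩
  rw [pow_add] at ha
  refine Submodule.mul_induction_on ha (fun u hu v hv => ?_) (fun u v hu hv => by rw [add_smul, hu, hv, add_zero])
  rw [mul_smul]
  refine hk u hu _ ?_
  have := hn v hv
  rwa [← Submodule.Quotient.mk_smul, Submodule.Quotient.mk_eq_zero] at this

/-- the associated primes of a torsion-free module do not contain `I` -/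
lemma not_le_of_gamma_eq_bot (h : gamma I M = ⊥) {p : Ideal R} (hp : p ∈ associatedPrimes R M) : ¬ I ≤ p := by
  intro hle
  obtain ⟨hpr, z, hz⟩ := isAssociatedPrime_iff.1 hp
  have hzg : z ∈ gamma I M := ⟨1, fun a ha => by
    have := hle (by rwa [pow_one] at ha)
    rwa [hz, Submodule.mem_colon_singleton, Submodule.mem_bot] at this⟩
  rw [h, Submodule.mem_bot] at hzg
  exact hpr.ne_top ((Ideal.eq_top_iff_one _).2 (by
    rw [hz, Submodule.mem_colon_singleton, Submodule.mem_bot, hzg, smul_zero]))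

/-- an element of `I` outside finitely many primes not containing `I`, regular on a torsion-free module -/
lemma exists_regular [Module.Finite R M] (h : gamma I M = ⊥) (P : Finset (Ideal R))
    (hP : ∀ p ∈ P, p.IsPrime ∧ ¬ I ≤ p) : ∃ x ∈ I, IsSMulRegular M x ∧ ∀ p ∈ P, x ∉ p := by
  classical
  have hfin := associatedPrimes.finite R M
  by_contra hex
  have hsub : (I : Set R) ⊆ ⋃ p ∈ ((P ∪ hfin.toFinset : Finset (Ideal R)) : Set (Ideal R)), (p : Set R) := by
    intro x hx
    by_cases hxP : ∃ p ∈ P, x ∈ p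
    · obtain ⟨p, hp, hxp⟩ := hxP
      exact Set.mem_biUnion (Finset.mem_coe.2 (Finset.mem_union_left _ hp)) hxp
    · obtain ⟨z, hz0, hz⟩ : ∃ z : M, z ≠ 0 ∧ x • z = 0 := by
        by_contra! hno
        exact hex ⟨x, hx, fun a b hab => sub_eq_zero.1 (by_contra fun hne => hno _ hne
          (by rw [smul_sub]; exact sub_eq_zero.2 hab)), fun p hp hxp => hxP ⟨p, hp, hxp⟩⟩
      have : x ∈ ⋃ p ∈ associatedPrimes R M, (p : Set R) := by
        rw [biUnion_associatedPrimes_eq_zero_divisors R M]
        exact ⟨z, hz0, hz⟩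
      simp only [Set.mem_iUnion] at this ⊢
      obtain ⟨p, hp, hp'⟩ := this
      exact ⟨p, by simp [hp], hp'⟩
  obtain ⟨p, hp, hle⟩ := (Ideal.subset_union_prime (f := fun p : Ideal R => p) ⊥ ⊥ (fun i hi _ _ =>
    (Finset.mem_union.1 hi).elim (fun h1 => (hP i h1).1) (fun h1 => (hfin.mem_toFinset.1 h1).isPrime))).1 hsub
  rcases Finset.mem_union.1 hp with hp | hp
  · exact (hP p hp).2 hle
  · exact not_le_of_gamma_eq_bot I h (hfin.mem_toFinset.1 hp) hle

omit [IsNoetherianRing R] in
/-- the multiplication sequence -/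
lemma smulSeq_shortExact {x : R} (hx : IsSMulRegular M x) : ((ModuleCat.of R M).smulShortComplex x).ShortExact :=
  hx.smulShortComplex_shortExact

omit [IsNoetherianRing R] in
lemma map_smulSeq (i : ℕ) (x : R) (y : (HF I i).obj (ModuleCat.of R M)) :
    (HF I i).map ((ModuleCat.of R M).smulShortComplex x).f y = x • y := by
  exact map_smul_id I i (ModuleCat.of R M) x y

end Groth.Agent.LocCoh
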