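import Groth.Agent.LocCoh.Triangle
import Mathlib.RingTheory.KrullDimension.Module
import Mathlib.RingTheory.Jacobson.Ideal
import Mathlib.RingTheory.Localization.Away.Basic

/-!
# Top degree: monotonicity in the ideal
-/

set_option autoImplicit false

universe u

noncomputable section

namespace Groth.Agent.LocCoh.TopVanishing

open CategoryTheory

variable {R : Type u} [CommRing R] [IsNoetherianRing R]

theorem subsingleton_loc_of_mem_jacobson (J : Ideal R) {b : R} (hb : b ∈ (⊥ : Ideal R).jacobson) (d : ℕ)
    (hd : ringKrullDim R = d) (M : Type u) [AddCommGroup M] [Module R M] (i : ℕ) (hi : d ≤ i) :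
    Subsingleton (LocCoh.H J i (LocalizedModule (Submonoid.powers b) M)) := by
  let A := Localization (Submonoid.powers b)
  haveI : IsNoetherianRing A := IsLocalization.isNoetherianRing (Submonoid.powers b) A inferInstance
  have hdim : ringKrullDim A < (i : WithBot ℕ∞) := by
    by_contra hge
    rw [not_lt] at hge
    obtain ⟨l, hl⟩ := Order.le_krullDim_iff.1 hge
    let e := IsLocalization.orderEmbedding (Submonoid.powers b) A
    let l' : LTSeries (PrimeSpectrum R) := l.map (fun q => ⟨q.asIdeal.comap (algebraMap R A), inferInstance⟩)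
      fun p q hpq => e.strictMono hpq
    obtain ⟨m, hm, hle⟩ := Ideal.exists_le_maximal _ (l'.last).isPrime.ne_top
    have hbm : b ∈ m := Ideal.mem_sInf.1 hb ⟨bot_le, hm⟩
    have hbl : b ∉ (l'.last).asIdeal := fun h => (l.last).isPrime.ne_top (Ideal.eq_top_of_isUnit_mem _ h
      (IsLocalization.map_units A (⟨b, Submonoid.mem_powers b⟩ : Submonoid.powers b)))
    have hlt : l'.last < (⟨m, hm.isPrime⟩ : PrimeSpectrum R) := lt_of_le_of_ne hle fun he => hbl (he ▸ hbm)
    have h2 := Order.LTSeries.length_le_krullDim (l'.snoc ⟨m, hm.isPrime⟩ hlt)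
    rw [RelSeries.snoc_length] at h2
    rw [show Order.krullDim (PrimeSpectrum R) = ringKrullDim R from rfl, hd] at h2
    have h3 : (l'.length + 1 : ℕ) ≤ d := by exact_mod_cast h2
    have h4 : l'.length = l.length := rfl
    omega
  haveI : Subsingleton (LocCoh.H (J.map (algebraMap R A)) i (LocalizedModule (Submonoid.powers b) M)) :=
    subsingleton_of_supportDim_lt _ i _ (lt_of_le_of_lt (Module.supportDim_le_ringKrullDim A _) hdim)
  exact (Restrict.subsingleton_iff (Restrict.sameTorsion_map (R' := A) J) i (LocalizedModule (Submonoid.powers b) M)).1 inferInstance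

/-- vanishing in degree `≥ dim` descends to smaller ideals inside the Jacobson radical -/
theorem subsingleton_of_le (d : ℕ) (hd : ringKrullDim R = d) {I I' : Ideal R} (hII' : I ≤ I') (hJ : I' ≤ (⊥ : Ideal R).jacobson)
    (M : Type u) [AddCommGroup M] [Module R M] (i : ℕ) (hi : d ≤ i) [h : Subsingleton (LocCoh.H I' i M)] :
    Subsingleton (LocCoh.H I i M) := by
  classical
  obtain ⟨s, hs⟩ := IsNoetherian.noetherian I'
  suffices key : ∀ t : Finset R, (t : Set R) ⊆ (I' : Set R) → Subsingleton (LocCoh.H (I ⊔ Ideal.span (t : Set R)) i M) →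
      Subsingleton (LocCoh.H I i M) by
    refine key s (hs ▸ Submodule.subset_span) ?_
    rwa [show I ⊔ Ideal.span (s : Set R) = I' by rw [Ideal.span, hs, sup_eq_right]; exact hII']
  intro t
  induction t using Finset.induction with
  | empty => intro _ h; rwa [Finset.coe_empty, Ideal.span_empty, sup_bot_eq] at h
  | insert x t hxt ih =>
    intro hsub h
    rw [Finset.coe_insert] at hsub h
    rw [Set.insert_subset_iff] at hsub
    refine ih hsub.2 ?_
    rw [Ideal.span_insert, ← sup_assoc, sup_right_comm] at h
    haveI := subsingleton_loc_of_mem_jacobson (I ⊔ Ideal.span (t : Set R)) (hJ hsub.1) d hd M i hi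
    refine subsingleton_of_forall_eq 0 fun y => ?_
    obtain ⟨w, rfl⟩ := (Triangle.exact x M (I ⊔ Ideal.span (t : Set R)) i y).1 (Subsingleton.elim _ _)
    rw [Subsingleton.elim (α := LocCoh.H ((I ⊔ Ideal.span (t : Set R)) ⊔ Ideal.span {x}) i M) w 0]
    exact map_zero _

end Groth.Agent.LocCoh.TopVanishing
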