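import Groth.Agent.LocCoh.Basic
import Mathlib.RingTheory.Filtration
import Mathlib.Algebra.Module.Injective
import Mathlib.RingTheory.Finiteness.Ideal

/-!
# `H^0_I = Γ_I`, acyclicity of `I`-power torsion modules, elements killed by powers of `I`
-/

set_option autoImplicit false

universe u

open CategoryTheory CategoryTheory.Limits CategoryTheory.Abelian Opposite
open scoped Pointwise

noncomputable section

namespace Groth.Agent.LocCoh

variable {R : Type u} [CommRing R] (I : Ideal R)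

lemma smul_toH_eq_zero {i n : ℕ} (M : ModuleCat.{u} R) (ξ : Ext (Q I n) M i) {a : R} (ha : a ∈ I ^ n) :
    a • toH I i M n ξ = 0 := by
  rw [← map_smul]
  have h : a • ξ = 0 := by
    have h2 : (Ext.mk₀ (a • 𝟙 (Q I n))).comp ξ (zero_add i) = a • ξ := by
      rw [Ext.mk₀_smul, Ext.smul_comp, Ext.mk₀_id_comp]
    rw [← h2, show a • 𝟙 (Q I n) = 0 from ModuleCat.hom_ext (LinearMap.ext fun z => by
      obtain ⟨z, rfl⟩ := Submodule.Quotient.mk_surjective _ z
      exact (Submodule.Quotient.mk_eq_zero _).2 (Ideal.mul_mem_right _ _ ha)), Ext.mk₀_zero, Ext.zero_comp]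
  rw [h, map_zero]

theorem isPowerTorsion_H (i : ℕ) (M : ModuleCat.{u} R) : LocCoh.IsPowerTorsion I ((HF I i).obj M) := fun x => by
  obtain ⟨n, ξ, rfl⟩ := exists_toH I i M x
  exact ⟨n, fun a ha => smul_toH_eq_zero I M ξ ha⟩

/-- the value at `1` -/
def ev (M : ModuleCat.{u} R) (n : ℕ) : Ext (Q I n) M 0 →ₗ[R] M where
  toFun ξ := (Ext.addEquiv₀ ξ).hom (Submodule.Quotient.mk 1)
  map_add' a b := by rw [map_add]; rfl
  map_smul' r a := by
    obtain ⟨g, rfl⟩ := (Ext.mk₀_bijective _ _).2 a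
    rw [← Ext.mk₀_smul, RingHom.id_apply, ← Ext.addEquiv₀_symm_apply, ← Ext.addEquiv₀_symm_apply,
      AddEquiv.apply_symm_apply, AddEquiv.apply_symm_apply]
    rfl

lemma ev_mk₀ (M : ModuleCat.{u} R) {n : ℕ} (g : Q I n ⟶ M) :
    ev I M n (Ext.mk₀ g) = g.hom (Submodule.Quotient.mk 1) := by
  change (Ext.addEquiv₀ (Ext.mk₀ g)).hom _ = _
  rw [← Ext.addEquiv₀_symm_apply, AddEquiv.apply_symm_apply]

/-- `H^0_I(M) → M` -/
def h0 (M : ModuleCat.{u} R) : (HF I 0).obj M →ₗ[R] M :=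
  desc I 0 M (ev I M) fun n m h ξ => by
    obtain ⟨g, rfl⟩ := (Ext.mk₀_bijective _ _).2 ξ
    rw [Ext.mk₀_comp_mk₀, ev_mk₀, ev_mk₀]
    rfl

lemma h0_toH (M : ModuleCat.{u} R) {n : ℕ} (ξ : Ext (Q I n) M 0) : h0 I M (toH I 0 M n ξ) = ev I M n ξ :=
  desc_toH I 0 M _ _ n ξ

lemma h0_injective (M : ModuleCat.{u} R) : Function.Injective (h0 I M) := by
  refine (injective_iff_map_eq_zero _).2 fun x hx => ?_
  obtain ⟨n, ξ, rfl⟩ := exists_toH I 0 M x
  obtain ⟨g, rfl⟩ := (Ext.mk₀_bijective _ _).2 ξ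
  rw [h0_toH, ev_mk₀] at hx
  have hg : g = 0 := ModuleCat.hom_ext (LinearMap.ext fun z => by
    obtain ⟨z, rfl⟩ := Submodule.Quotient.mk_surjective _ z
    rw [show (Submodule.Quotient.mk z : R ⧸ I ^ n) = z • Submodule.Quotient.mk 1 by
      rw [← Submodule.Quotient.mk_smul, smul_eq_mul, mul_one]]
    rw [map_smul, hx, smul_zero]
    rfl)
  rw [hg, Ext.mk₀_zero, map_zero]

lemma mem_range_h0 (M : ModuleCat.{u} R) {m : M} : m ∈ LinearMap.range (h0 I M) ↔ ∃ n, ∀ a ∈ I ^ n, a • m = 0 := by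
  constructor
  · rintro ⟨x, rfl⟩
    obtain ⟨n, h⟩ := isPowerTorsion_H I 0 M x
    exact ⟨n, fun a ha => by rw [← map_smul, h a ha, map_zero]⟩
  · rintro ⟨n, h⟩
    let g : Q I n ⟶ M := ModuleCat.ofHom (Submodule.liftQ (I ^ n) (LinearMap.toSpanSingleton R M m) h)
    refine ⟨toH I 0 M n (Ext.mk₀ g), ?_⟩
    rw [h0_toH, ev_mk₀]
    exact one_smul R m

lemma h0_map {M N : ModuleCat.{u} R} (g : M ⟶ N) (x : (HF I 0).obj M) :
    h0 I N ((HF I 0).map g x) = g (h0 I M x) := by
  obtain ⟨n, ξ, rfl⟩ := exists_toH I 0 M x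
  obtain ⟨f, rfl⟩ := (Ext.mk₀_bijective _ _).2 ξ
  rw [map_toH, Ext.mk₀_comp_mk₀, h0_toH, h0_toH, ev_mk₀, ev_mk₀]
  rfl

/-- `H^0_I(N) ≃ N` for power torsion `N` -/
def h0Equiv (N : Type u) [AddCommGroup N] [Module R N] (hN : LocCoh.IsPowerTorsion I N) : LocCoh.H I 0 N ≃ₗ[R] N :=
  LinearEquiv.ofBijective (h0 I (ModuleCat.of R N)) ⟨h0_injective I _, fun m => (mem_range_h0 I (ModuleCat.of R N)).2 (hN m)⟩

/-- `Γ_I(E)` -/
def gamma (E : Type u) [AddCommGroup E] [Module R E] : Submodule R E where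
  carrier := {m | ∃ n, ∀ a ∈ I ^ n, a • m = 0}
  zero_mem' := ⟨0, fun a _ => smul_zero a⟩
  add_mem' := fun ⟨n, hn⟩ ⟨m, hm⟩ => ⟨max n m, fun a ha => by
    rw [smul_add, hn a (Ideal.pow_le_pow_right (le_max_left n m) ha), hm a (Ideal.pow_le_pow_right (le_max_right n m) ha), add_zero]⟩
  smul_mem' := fun r _ ⟨n, hn⟩ => ⟨n, fun a ha => by rw [smul_comm, hn a ha, smul_zero]⟩

lemma isPowerTorsion_gamma (E : Type u) [AddCommGroup E] [Module R E] : LocCoh.IsPowerTorsion I (gamma I E) :=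
  fun x => x.2.imp fun _ h a ha => Subtype.ext (h a ha)

lemma exists_pow_kills {N : Type u} [AddCommGroup N] [Module R N] (hN : LocCoh.IsPowerTorsion I N)
    {S : Submodule R N} (hS : S.FG) : ∃ n, ∀ a ∈ I ^ n, ∀ m ∈ S, a • m = 0 := by
  obtain ⟨t, rfl⟩ := hS
  choose k hk using hN
  refine ⟨t.sup k, fun a ha m hm => ?_⟩
  induction hm using Submodule.span_induction with
  | mem x hx => exact hk x a (Ideal.pow_le_pow_right (Finset.le_sup hx) ha)
  | zero => exact smul_zero a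
  | add x y _ _ hx hy => rw [smul_add, hx, hy, add_zero]
  | smul r x _ hx => rw [smul_comm, hx, smul_zero]

variable [IsNoetherianRing R]

theorem injective_gamma (E : Type u) [AddCommGroup E] [Module R E] [Module.Injective R E] :
    Module.Injective R (gamma I E) := by
  refine Module.Baer.injective fun J g => ?_
  haveI : Module.Finite R J := Module.Finite.iff_fg.2 (IsNoetherian.noetherian J)
  obtain ⟨n, hn⟩ := exists_pow_kills I (isPowerTorsion_gamma I E) (Module.Finite.fg_top.map g)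
  obtain ⟨k, hk⟩ := Ideal.exists_pow_inf_eq_pow_smul I (J : Submodule R R)
  have hle : I ^ n • (J : Submodule R R) ≤ (LinearMap.ker g).map J.subtype := by
    refine Submodule.smul_le.2 fun a ha j hj => ⟨a • ⟨j, hj⟩, ?_, rfl⟩
    rw [SetLike.mem_coe, LinearMap.mem_ker, map_smul]
    exact hn a ha _ (Submodule.mem_map_of_mem Submodule.mem_top)
  have hker : LinearMap.ker ((I ^ (k + n)).mkQ ∘ₗ J.subtype) ≤ LinearMap.ker g := by
    intro x hx
    have h2 : (x : R) ∈ I ^ (k + n) • (⊤ : Submodule R R) ⊓ (J : Submodule R R) :=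
      ⟨by rw [SetLike.mem_coe, smul_eq_mul, Ideal.mul_top]; exact (Submodule.Quotient.mk_eq_zero _).1 hx, x.2⟩
    rw [hk (k + n) (Nat.le_add_right k n), Nat.add_sub_cancel_left] at h2
    obtain ⟨y, hy, hyx⟩ := hle (Submodule.smul_mono le_rfl inf_le_right h2)
    rwa [Subtype.ext hyx] at hy
  let f' : (J ⧸ LinearMap.ker ((I ^ (k + n)).mkQ ∘ₗ J.subtype)) →ₗ[R] R ⧸ I ^ (k + n) :=
    Submodule.liftQ _ ((I ^ (k + n)).mkQ ∘ₗ J.subtype) le_rfl
  have hf' : Function.Injective f' := LinearMap.ker_eq_bot.1 (Submodule.ker_liftQ_eq_bot _ _ _ le_rfl)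
  obtain ⟨h, hh⟩ := Module.Injective.out f' hf' ((gamma I E).subtype ∘ₗ Submodule.liftQ _ g hker)
  refine ⟨(h ∘ₗ (I ^ (k + n)).mkQ).codRestrict (gamma I E) fun r => ⟨k + n, fun a ha => ?_⟩, fun x hx => Subtype.ext ?_⟩
  · rw [← map_smul, LinearMap.comp_apply]
    change h (Submodule.Quotient.mk (a • r)) = 0
    rw [(Submodule.Quotient.mk_eq_zero _).2 (show a • r ∈ I ^ (k + n) from Ideal.mul_mem_right _ _ ha), map_zero]
  · exact hh (Submodule.Quotient.mk ⟨x, hx⟩)

/-- `0 → N → Γ(E) → coker → 0` step -/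
lemma subsingleton_torsion_step (N : Type u) [AddCommGroup N] [Module R N] (hN : LocCoh.IsPowerTorsion I N) (j : ℕ)
    (hj : j = 0 ∨ ∀ (N' : Type u) [AddCommGroup N'] [Module R N'], LocCoh.IsPowerTorsion I N' → Subsingleton (LocCoh.H I j N')) :
    Subsingleton (LocCoh.H I (j + 1) N) := by
  let ⟨pres⟩ := EnoughInjectives.presentation (ModuleCat.of R N)
  haveI : Module.Injective R pres.J := by
    haveI := pres.injective
    exact (Module.injective_iff_injective_object R pres.J).2 (inferInstance : Injective (ModuleCat.of R pres.J))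
  haveI := injective_gamma I pres.J
  haveI : Injective (ModuleCat.of R (gamma I pres.J)) :=
    (Module.injective_iff_injective_object R _).1 inferInstance
  let f : N →ₗ[R] gamma I pres.J := pres.f.hom.codRestrict _ fun x =>
    (hN x).imp fun _ h a ha => by
      change a • pres.f.hom x = 0
      rw [← map_smul]
      exact (congrArg pres.f.hom (h a ha)).trans (map_zero _)
  have hf : Function.Injective f := fun a b hab =>
    (ModuleCat.mono_iff_injective pres.f).1 pres.mono (congrArg Subtype.val hab)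
  have hC : LocCoh.IsPowerTorsion I ((gamma I pres.J) ⧸ LinearMap.range f) := fun x => by
    obtain ⟨y, rfl⟩ := Submodule.Quotient.mk_surjective _ x
    exact (isPowerTorsion_gamma I pres.J y).imp fun _ h a ha => by
      rw [← Submodule.Quotient.mk_smul, h a ha, Submodule.Quotient.mk_zero]
  let S : ShortComplex (ModuleCat.{u} R) := ShortComplex.mk (ModuleCat.ofHom f)
    (ModuleCat.ofHom (LinearMap.range f).mkQ)
    (ModuleCat.hom_ext (LinearMap.ext fun x => (Submodule.Quotient.mk_eq_zero _).2 (LinearMap.mem_range_self f x)))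
  have hS : S.ShortExact :=
    { exact := (ShortComplex.ShortExact.moduleCat_exact_iff_function_exact S).2
        (LinearMap.exact_iff.2 (Submodule.ker_mkQ _))
      mono_f := (ModuleCat.mono_iff_injective _).2 hf
      epi_g := (ModuleCat.epi_iff_surjective _).2 (Submodule.mkQ_surjective _) }
  refine subsingleton_of_forall_eq 0 fun x => ?_
  haveI := subsingleton_of_injective I (j + 1) (ModuleCat.of R (gamma I pres.J)) (Nat.succ_pos j)
  obtain ⟨y, rfl⟩ := (exact₁ I j hS x).1 (Subsingleton.elim (α := (HF I (j + 1)).obj (ModuleCat.of R (gamma I pres.J))) _ _)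
  rcases hj with rfl | hj
  · obtain ⟨z, hz⟩ := Submodule.mkQ_surjective (LinearMap.range f) (h0 I S.X₃ y)
    obtain ⟨w, hw⟩ := (mem_range_h0 I S.X₂).2 (isPowerTorsion_gamma I pres.J z)
    have hy : (HF I 0).map S.g w = y := h0_injective I S.X₃ (by rw [h0_map, hw]; exact hz)
    rw [← hy]
    exact (exact₃ I 0 hS).apply_apply_eq_zero w
  · haveI := hj _ hC
    rw [Subsingleton.elim (α := LocCoh.H I j ((gamma I pres.J) ⧸ LinearMap.range f)) y 0]
    exact map_zero _

theorem subsingleton_torsion : ∀ (i : ℕ) (N : Type u) [AddCommGroup N] [Module R N], LocCoh.IsPowerTorsion I N →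
    Subsingleton (LocCoh.H I (i + 1) N)
  | 0, N, _, _, hN => subsingleton_torsion_step I N hN 0 (Or.inl rfl)
  | i + 1, N, _, _, hN => subsingleton_torsion_step I N hN (i + 1)
      (Or.inr fun N' _ _ h => subsingleton_torsion i N' h)

end Groth.Agent.LocCoh
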