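import Groth.Agent.LocCoh.Seq
import Mathlib.RingTheory.KrullDimension.Regular

/-!
# Finite submodules suffice; Grothendieck vanishing
-/

set_option autoImplicit false

universe u

open CategoryTheory CategoryTheory.Abelian
open scoped Pointwise

noncomputable section

namespace Groth.Agent.LocCoh

variable {R : Type u} [CommRing R] [IsNoetherianRing R]

/-- classes in `Ext^i(Q, M)`, `Q` finite, come from finite submodules of `M` -/
theorem exists_finite_preimage (M : Type u) [AddCommGroup M] [Module R M] : ∀ (i : ℕ) (Q : Type u) [AddCommGroup Q]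
    [Module R Q] [Module.Finite R Q] (ξ : Ext (ModuleCat.of R Q) (ModuleCat.of R M) i),
    ∃ (S : Submodule R M) (_ : S.FG) (η : Ext (ModuleCat.of R Q) (ModuleCat.of R S) i),
      η.comp (Ext.mk₀ (ModuleCat.ofHom S.subtype)) (add_zero i) = ξ := by
  intro i
  induction i with
  | zero =>
    intro Q _ _ _ ξ
    obtain ⟨f, rfl⟩ := (Ext.mk₀_bijective _ _).2 ξ
    refine ⟨LinearMap.range f.hom, Module.Finite.iff_fg.1 (Module.Finite.range f.hom),
      Ext.mk₀ (ModuleCat.ofHom f.hom.rangeRestrict), ?_⟩
    rw [Ext.mk₀_comp_mk₀]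
    rfl
  | succ i ih =>
    intro Q _ _ _ ξ
    obtain ⟨k, g, hg⟩ := Module.Finite.exists_fin' R Q
    haveI : Module.Finite R (LinearMap.ker g) := Module.Finite.iff_fg.2 (IsNoetherian.noetherian _)
    have hS : (LinearMap.shortComplexKer g).ShortExact := LinearMap.shortExact_shortComplexKer hg
    haveI : Module.Projective R (Fin k → R) := inferInstance
    obtain ⟨ξ₀, hξ⟩ := Ext.contravariant_sequence_exact₃ hS (ModuleCat.of R M) ξ
      (Ext.eq_zero_of_projective (P := ModuleCat.of R (Fin k → R)) _) (by omega : 1 + i = i + 1)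
    obtain ⟨S, hfg, η, hη⟩ := ih (LinearMap.ker g) ξ₀
    refine ⟨S, hfg, hS.extClass.comp η (by omega), ?_⟩
    rw [Ext.comp_assoc hS.extClass η (Ext.mk₀ _) (by omega : 1 + i = i + 1) (add_zero i) (by omega), hη, hξ]

theorem subsingleton_of_finite (I : Ideal R) (i : ℕ) (M : Type u) [AddCommGroup M] [Module R M]
    (h : ∀ S : Submodule R M, S.FG → Subsingleton (LocCoh.H I i S)) : Subsingleton (LocCoh.H I i M) := by
  refine subsingleton_of_forall_eq 0 fun x => ?_
  obtain ⟨n, ξ, rfl⟩ := exists_toH I i (ModuleCat.of R M) x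
  obtain ⟨S, hfg, η, rfl⟩ := exists_finite_preimage M i (R ⧸ I ^ n) ξ
  haveI := h S hfg
  rw [← map_toH, Subsingleton.elim (α := LocCoh.H I i S) (toH I i (ModuleCat.of R S) n η) 0, map_zero]

theorem subsingleton_mid (I : Ideal R) (i : ℕ) {A B C : Type u} [AddCommGroup A] [Module R A] [AddCommGroup B]
    [Module R B] [AddCommGroup C] [Module R C] (f : A →ₗ[R] B) (g : B →ₗ[R] C) (hf : Function.Injective f)
    (hg : Function.Surjective g) (hfg : Function.Exact f g) [Subsingleton (LocCoh.H I i A)]
    [Subsingleton (LocCoh.H I i C)] : Subsingleton (LocCoh.H I i B) := by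
  let S : ShortComplex (ModuleCat.{u} R) := ShortComplex.mk (ModuleCat.ofHom f) (ModuleCat.ofHom g)
    (ModuleCat.hom_ext (LinearMap.ext fun z => hfg.apply_apply_eq_zero z))
  have hS : S.ShortExact :=
    { exact := (ShortComplex.ShortExact.moduleCat_exact_iff_function_exact S).2 hfg
      mono_f := (ModuleCat.mono_iff_injective _).2 hf
      epi_g := (ModuleCat.epi_iff_surjective _).2 hg }
  refine subsingleton_of_forall_eq 0 fun x => ?_
  obtain ⟨y, rfl⟩ := (exact₂ I i hS x).1 (Subsingleton.elim (α := LocCoh.H I i C) _ _)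
  rw [Subsingleton.elim (α := LocCoh.H I i A) y 0]
  exact map_zero _

lemma subsingleton_H_of_subsingleton (I : Ideal R) (i : ℕ) (M : Type u) [AddCommGroup M] [Module R M] [Subsingleton M] :
    Subsingleton (LocCoh.H I i M) := by
  cases i with
  | zero => exact (h0_injective I (ModuleCat.of R M)).subsingleton
  | succ i => exact subsingleton_torsion I i M fun m => ⟨0, fun a _ => Subsingleton.elim _ _⟩

lemma coe_lt_of_add_one_le {a b : WithBot ℕ∞} {i : ℕ} (h : a + 1 ≤ b) (hb : b < ((i + 1 : ℕ) : WithBot ℕ∞)) :
    a < (i : WithBot ℕ∞) := by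
  cases a with
  | bot => exact WithBot.bot_lt_coe _
  | coe a =>
    have h1 : (((a + 1 : ℕ∞)) : WithBot ℕ∞) < (((i + 1 : ℕ) : ℕ∞) : WithBot ℕ∞) := lt_of_le_of_lt h hb
    rw [WithBot.coe_lt_coe, Nat.cast_succ] at h1
    exact WithBot.coe_lt_coe.2 ((ENat.add_lt_add_iff_right (by simp)).1 h1)

/-- Grothendieck vanishing -/
theorem subsingleton_of_supportDim_lt (I : Ideal R) : ∀ (i : ℕ) (M : Type u) [AddCommGroup M] [Module R M],
    Module.supportDim R M < (i : WithBot ℕ∞) → Subsingleton (LocCoh.H I i M) := by
  intro i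
  induction i with
  | zero =>
    intro M _ _ h
    haveI : Subsingleton M := by
      by_contra hM
      haveI := not_subsingleton_iff_nontrivial.1 hM
      haveI : Nonempty (Module.support R M) := (Module.nonempty_support_of_nontrivial).to_subtype
      exact absurd h (not_lt.2 (Order.krullDim_nonneg (α := Module.support R M)))
    exact subsingleton_H_of_subsingleton I 0 M
  | succ i ih =>
    suffices key : ∀ (N : Type u) [AddCommGroup N] [Module R N] [Module.Finite R N],
        Module.supportDim R N < ((i + 1 : ℕ) : WithBot ℕ∞) → Subsingleton (LocCoh.H I (i + 1) N) by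
      intro M _ _ h
      refine subsingleton_of_finite I (i + 1) M fun S hS => ?_
      haveI : Module.Finite R S := Module.Finite.iff_fg.2 hS
      exact key S (lt_of_le_of_lt (Module.supportDim_le_of_injective S.subtype Subtype.val_injective) h)
    intro N _ _ hN hdim
    revert hdim
    induction hN using IsNoetherianRing.induction_on_isQuotientEquivQuotientPrime with
    | subsingleton P => exact fun _ => subsingleton_H_of_subsingleton I (i + 1) P
    | exact N₁ N₂ N₃ f g hf hg hfg ih1 ih3 =>
      intro hdim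
      haveI := ih1 (lt_of_le_of_lt (Module.supportDim_le_of_injective f hf) hdim)
      haveI := ih3 (lt_of_le_of_lt (Module.supportDim_le_of_surjective g hg) hdim)
      exact subsingleton_mid I (i + 1) f g hf hg hfg
    | quotient P p e =>
      intro hdim
      rw [Module.supportDim_eq_of_equiv e] at hdim
      suffices Subsingleton (LocCoh.H I (i + 1) (R ⧸ p.asIdeal)) from (congrH I (i + 1) e).subsingleton
      by_cases hI : I ≤ p.asIdeal
      · refine subsingleton_torsion I i _ fun z => ⟨1, fun a ha => ?_⟩
        obtain ⟨z, rfl⟩ := Submodule.Quotient.mk_surjective _ z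
        rw [← Submodule.Quotient.mk_smul, Submodule.Quotient.mk_eq_zero]
        exact Ideal.mul_mem_right _ _ (hI (by rwa [pow_one] at ha))
      obtain ⟨x, hx, hxp⟩ := SetLike.not_le_iff_exists.1 hI
      have hreg : IsSMulRegular (R ⧸ p.asIdeal) x := by
        intro a b hab
        obtain ⟨a, rfl⟩ := Ideal.Quotient.mk_surjective a
        obtain ⟨b, rfl⟩ := Ideal.Quotient.mk_surjective b
        rw [Ideal.Quotient.eq]
        refine (p.isPrime.mem_or_mem ?_).resolve_left hxp
        rw [mul_sub, ← Ideal.Quotient.eq, map_mul, map_mul]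
        exact hab
      have hS := smulSeq_shortExact hreg
      haveI : Subsingleton (LocCoh.H I i (QuotSMulTop x (R ⧸ p.asIdeal))) := by
        refine ih _ (coe_lt_of_add_one_le (Module.supportDim_quotSMulTop_succ_le_of_notMem_minimalPrimes fun q hq hxq => ?_) hdim)
        rw [Ideal.annihilator_quotient, Ideal.minimalPrimes_eq_subsingleton_self] at hq
        exact hxp (hq ▸ hxq)
      refine subsingleton_of_forall_eq 0 fun y => ?_
      obtain ⟨j, hj⟩ := isPowerTorsion_H I (i + 1) (ModuleCat.of R (R ⧸ p.asIdeal)) y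
      have hinj : ∀ z : LocCoh.H I (i + 1) (R ⧸ p.asIdeal), x • z = 0 → z = 0 := fun z hz => by
        obtain ⟨w, rfl⟩ := (exact₁ I i hS z).1 ((map_smulSeq I (i + 1) x z).trans hz)
        rw [Subsingleton.elim (α := LocCoh.H I i (QuotSMulTop x (R ⧸ p.asIdeal))) w 0]
        exact map_zero _
      have hy : x ^ j • y = 0 := hj _ (Ideal.pow_mem_pow hx j)
      clear hj
      induction j with
      | zero => simpa using hy
      | succ j ihj => exact ihj (hinj _ (by rw [← mul_smul, ← pow_succ']; exact hy))

end Groth.Agent.LocCoh
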